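import Mathlib
import Cfsg.Agent.H912.Bd2

/-!
# The weight-orbit bound for a "transvection" configuration (helper95, T16)
-/

set_option autoImplicit false

universe u v w

namespace Cfsg.Agent.H95.LSx

open Subgroup Cfsg.Agent.H912.Bd

/-- **Weight-orbit bound, elementary abelian version**: commuting involutions `z`, `x i`, and for all `a : ι → Bool` an
element `s a` with `z ↦ z`, `x i ↦ x i` or `x i ↦ x i * z` according to `a i`. -/
theorem bound_transv {F : Type u} [Field F] {n : ℕ} {T : Type v} [Group T] (h : PR F n 2 T) (hF : ((2 : ℕ) : F) ≠ 0)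
    {ι : Type} [Fintype ι] [DecidableEq ι] [Finite T] {z : T} (hz1 : z ≠ 1) (hz : z * z = 1) (x : ι → T)
    (hx : ∀ i, x i * x i = 1) (hxz : ∀ i, x i * z = z * x i) (hxx : ∀ i j, x i * x j = x j * x i)
    (s : (ι → Bool) → T) (hsz : ∀ a, s a * z * (s a)⁻¹ = z)
    (hsx : ∀ a i, s a * x i * (s a)⁻¹ = if a i then x i * z else x i) : 2 ^ Fintype.card ι ≤ n := by
  classical
  let R : Set T := insert z (Set.range x)
  let E : Subgroup T := closure R
  have hR : ∀ a ∈ R, ∀ b ∈ R, a * b = b * a := by
    rintro _ (rfl | ⟨i, rfl⟩) _ (rfl | ⟨j, rfl⟩)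
    · rfl
    · exact (hxz j).symm
    · exact hxz i
    · exact hxx i j
  have hE : ∀ a ∈ E, ∀ b ∈ E, a * b = b * a := by
    intro a ha b hb
    have h1 : E ≤ centralizer (E : Set T) := by
      refine (closure_le_centralizer_centralizer R).trans ?_
      apply centralizer_le
      intro y hy
      have h2 : E ≤ centralizer R := by
        rw [closure_le]
        intro c hc
        exact mem_centralizer_iff.2 fun d hd => hR d hd c hc
      exact h2 hy
    exact (mem_centralizer_iff.1 (h1 ha) b hb).symm
  have hE2 : ∀ a ∈ E, a * a = 1 := by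
    intro a ha
    induction ha using closure_induction with
    | mem a ha =>
      rcases ha with rfl | ⟨i, rfl⟩
      · exact hz
      · exact hx i
    | one => exact mul_one 1
    | mul a b ha hb iha ihb =>
      rw [mul_assoc, ← mul_assoc b a b, hE b hb a ha, mul_assoc a b b, ihb, mul_one, iha]
    | inv a ha iha => rw [← mul_inv_rev, iha, inv_one]
  have hz' : z⁻¹ = z := inv_eq_of_mul_eq_one_left hz
  have hzE : z ∈ E := subset_closure (Set.mem_insert _ _)
  have hxE : ∀ i, x i ∈ E := fun i => subset_closure (Set.mem_insert_of_mem _ ⟨i, rfl⟩)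
  have hinj : Function.Injective s := by
    intro a b hab
    funext i
    have h1 := hsx a i
    rw [hab, hsx b i] at h1
    by_contra hne
    rcases Bool.eq_false_or_eq_true (a i) with ha | ha <;> rcases Bool.eq_false_or_eq_true (b i) with hb | hb <;>
      rw [ha, hb] at h1 hne
    · exact hne rfl
    · exact hz1 (mul_eq_left.1 h1.symm)
    · exact hz1 (mul_eq_left.1 h1)
    · exact hne rfl
  have : Fact (Nat.Prime 2) := ⟨Nat.prime_two⟩
  have key := h.bound Nat.prime_two hF E hE (by
      intro a
      refine ⟨1, ?_⟩
      rw [pow_one, pow_two]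
      exact Subtype.ext (hE2 a a.2)) hzE hz1 (Finset.univ.image s) (by
      intro t ht e he
      obtain ⟨a, -, rfl⟩ := Finset.mem_image.1 ht
      have h1 : E ≤ E.comap (MulAut.conj (s a)).toMonoidHom := by
        show closure R ≤ _
        rw [closure_le]
        rintro y (hy | ⟨i, rfl⟩)
        · show s a * y * (s a)⁻¹ ∈ E
          rw [hy, hsz]; exact hzE
        · show s a * x i * (s a)⁻¹ ∈ E
          rw [hsx]
          split_ifs
          · exact mul_mem (hxE i) hzE
          · exact hxE i
      exact h1 he) (by
      intro t ht t' ht' hne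
      obtain ⟨a, -, rfl⟩ := Finset.mem_image.1 ht
      obtain ⟨b, -, rfl⟩ := Finset.mem_image.1 ht'
      obtain ⟨i, hi⟩ : ∃ i, a i ≠ b i := by
        by_contra hcon
        push Not at hcon
        exact hne (by rw [funext hcon])
      refine ⟨x i, hxE i, ?_⟩
      rw [hsx, hsx]
      rcases Bool.eq_false_or_eq_true (a i) with ha | ha <;> rcases Bool.eq_false_or_eq_true (b i) with hb | hb <;>
        rw [ha, hb] at hi ⊢
      · exact absurd rfl hi
      · simp only [if_true, Bool.false_eq_true, if_false]
        rw [hxz, mul_inv_cancel_right]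
      · simp only [if_true, Bool.false_eq_true, if_false]
        rw [mul_inv_rev, hz', ← mul_assoc, hxz, mul_assoc, mul_inv_cancel, mul_one]
      · exact absurd rfl hi)
  rwa [Finset.card_image_of_injective _ hinj, Finset.card_univ, Fintype.card_fun, Fintype.card_bool] at key

end Cfsg.Agent.H95.LSx
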