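import Mathlib
import Cfsg.Agent.H95.LSx.Extra
import Cfsg.Agent.H95.LSx.Sub
import Cfsg.Agent.H203.LSTwF4
import Cfsg.Agent.S1074
import Cfsg.Agent.S2115

/-!
# The Tits group: every nontrivial representation of a perfect central extension in characteristic `≠ 2` has degree
at least `16` (helper95, T16)

`E = ⟨X, o 0, o 1, (e 0)², (e 2)²⟩ = 2 ^ 5`, and `⟨o (-1), o 2, e 0, e 2⟩` induces all transvections to `⟨X⟩` on it.
-/

set_option autoImplicit false

universe u v w

namespace Cfsg.Agent.H95.LSx.Tits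

open Subgroup Cfsg.Agent.H203.LS Cfsg.Agent.H912.Bd Cfsg.Agent.KFacts.TwF4 Cfsg.Agent.KFacts.TwF4.Inst
open scoped commutatorElement

section

variable {F : Type u} [Field F] {σ : F →+* F} {G : Type u} [Group G] (S : Sys σ G)

theorem comm_mem {a b c : G} (h : a * b = b * a * c) : c ∈ commutator G := by
  have h1 : c = ⁅a⁻¹, b⁻¹⁆ := by
    rw [commutatorElement_def, inv_inv, inv_inv, mul_assoc, h]
    group
  rw [h1]
  exact commutator_mem_commutator (mem_top _) (mem_top _)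

theorem o_mem (a : ZMod 8) : S.o a 1 ∈ commutator G := by
  have h := S.e_e1 a 1 0 1 0
  rw [mul_one] at h
  exact comm_mem h

theorem e0_mem (a : ZMod 8) : S.e a 0 1 ∈ commutator G := by
  have h := S.o_e2 (a - 1) 1 1 0
  rw [mul_one, sub_add_cancel] at h
  exact comm_mem h

theorem of_eq_one {x : G} : Abelianization.of x = 1 ↔ x ∈ commutator G := QuotientGroup.eq_one_iff x

theorem ab_e (a b : ZMod 8) : Abelianization.of (S.e a 1 0) = Abelianization.of (S.e b 1 0) := by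
  have h1 : ∀ c : ZMod 8, Abelianization.of (S.e c 1 0) = Abelianization.of (S.e 0 1 0) := by
    refine Sys.ind8 0 rfl ?_
    intro c hc
    rw [← S.rot_e c 1 0, map_mul, map_mul, map_inv, mul_comm, inv_mul_cancel_left, hc]
  rw [h1 a, h1 b]

theorem e_cc (a : ZMod 8) : S.e a 1 0 * S.e a 0 1 = S.e a 0 1 * S.e a 1 0 := by
  rw [S.e_mul, S.e_mul, map_zero, mul_zero, zero_mul]
  simp only [add_zero, zero_add]

variable (h2 : (2 : F) = 0)

include h2 in
theorem one_one : (1 : F) + 1 = 0 := by rw [one_add_one_eq_two, h2]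

include h2 in
theorem e_sq (a : ZMod 8) : S.e a 1 0 * S.e a 1 0 = S.e a 0 1 := by
  rw [S.e_mul, map_one, one_one h2, mul_one, add_zero, zero_add]

include h2 in
theorem e0_sq (a : ZMod 8) : S.e a 0 1 * S.e a 0 1 = 1 := by
  rw [S.e_mul, zero_mul, add_zero, add_zero, one_one h2, TwF4.e_zero]

include h2 in
theorem o_sq (a : ZMod 8) : S.o a 1 * S.o a 1 = 1 := by
  rw [S.o_add, one_one h2, TwF4.o_zero]

include h2 in
theorem ee_mem (a b : ZMod 8) : S.e a 1 0 * S.e b 1 0 ∈ commutator G := by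
  rw [← of_eq_one, map_mul, ab_e S a b, ← map_mul, of_eq_one, e_sq S h2]
  exact e0_mem S b

theorem cjA {a b c : G} (h : a * b = b * a * c) (hbc : b * c = c * b) (hc : c * c = 1) : b * a * b⁻¹ = a * c := by
  have h1 : b * a = a * c * b := by
    rw [mul_assoc a, ← hbc, ← mul_assoc, h, mul_assoc, hc, mul_one]
  rw [h1, mul_inv_cancel_right]

theorem cjB {a b c : G} (h : a * b = b * a * c) (hac : a * c = c * a) : a * b * a⁻¹ = b * c := by
  rw [h, mul_assoc b, hac, ← mul_assoc, mul_inv_cancel_right]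

theorem cj1 {a b : G} (h : a * b = b * a) : a * b * a⁻¹ = b := by rw [h, mul_inv_cancel_right]

/-- the four involutions -/
def xx (S : Sys σ G) : Fin 4 → G := ![S.o 0 1, S.o 1 1, S.e 0 0 1, S.e 2 0 1]
/-- the four "transvections" -/
def yy (S : Sys σ G) : Fin 4 → G := ![S.e 1 1 0 * S.e 2 1 0, S.e 1 1 0 * S.e 0 1 0, S.o 2 1, S.o 7 1]

theorem xx_mem (i : Fin 4) : xx S i ∈ commutator G := by
  revert i
  rw [Fin.forall_fin_succ, Fin.forall_fin_succ, Fin.forall_fin_two]
  exact ⟨o_mem S 0, o_mem S 1, e0_mem S 0, e0_mem S 2⟩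

include h2 in
theorem yy_mem (i : Fin 4) : yy S i ∈ commutator G := by
  revert i
  rw [Fin.forall_fin_succ, Fin.forall_fin_succ, Fin.forall_fin_two]
  exact ⟨ee_mem S h2 1 2, ee_mem S h2 1 0, o_mem S 2, o_mem S 7⟩

include h2 in
theorem xx_sq (i : Fin 4) : xx S i * xx S i = 1 := by
  revert i
  rw [Fin.forall_fin_succ, Fin.forall_fin_succ, Fin.forall_fin_two]
  exact ⟨o_sq S h2 0, o_sq S h2 1, e0_sq S h2 0, e0_sq S h2 2⟩

theorem xx_z (i : Fin 4) : xx S i * S.e 1 0 1 = S.e 1 0 1 * xx S i := by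
  revert i
  rw [Fin.forall_fin_succ, Fin.forall_fin_succ, Fin.forall_fin_two]
  exact ⟨(TwF4.XA0 S 1 1).symm, (TwF4.XA1 S 1 1).symm, (TwF4.XB1 S 1 0 1).symm, (TwF4.XB0 S 1 0 1).symm⟩

/-- the relations between `o`s and `e`s that are needed -/
theorem xx_xx (i j : Fin 4) : xx S i * xx S j = xx S j * xx S i := by
  have key : ∀ i j : Fin 4, i < j → xx S i * xx S j = xx S j * xx S i := by
    intro i j hij
    fin_cases i <;> fin_cases j <;> first | exact absurd hij (by decide) | skip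
    · exact S.o_o1 0 1 1
    · exact (S.e_o0 0 0 1 1).symm
    · have := S.o_e2 0 1 0 1
      rw [mul_zero, TwF4.e_zero, mul_one] at this
      exact this
    · have := S.e_o1 0 0 1 1
      rw [zero_mul, TwF4.e_zero, mul_one] at this
      exact this.symm
    · exact S.o_e1 1 1 0 1
    · exact S.e_e2 0 0 1 0 1
  rcases lt_trichotomy i j with h | h | h
  · exact key i j h
  · rw [h]
  · exact (key j i h).symm

theorem yy_z (i : Fin 4) : yy S i * S.e 1 0 1 * (yy S i)⁻¹ = S.e 1 0 1 := by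
  have h1 := e_cc S 1
  revert i
  rw [Fin.forall_fin_succ, Fin.forall_fin_succ, Fin.forall_fin_two]
  refine ⟨?_, ?_, ?_, ?_⟩
  · have h3 : S.e 2 1 0 * S.e 1 0 1 = S.e 1 0 1 * S.e 2 1 0 := (TwF4.XB0 S 1 1 0).symm
    refine cj1 ?_
    show S.e 1 1 0 * S.e 2 1 0 * S.e 1 0 1 = S.e 1 0 1 * (S.e 1 1 0 * S.e 2 1 0)
    rw [mul_assoc, h3, ← mul_assoc, h1, mul_assoc]
  · have h3 : S.e 0 1 0 * S.e 1 0 1 = S.e 1 0 1 * S.e 0 1 0 := (TwF4.XB1 S 1 1 0).symm
    refine cj1 ?_
    show S.e 1 1 0 * S.e 0 1 0 * S.e 1 0 1 = S.e 1 0 1 * (S.e 1 1 0 * S.e 0 1 0)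
    rw [mul_assoc, h3, ← mul_assoc, h1, mul_assoc]
  · have h3 := S.e_o1 1 0 1 1
    rw [zero_mul, TwF4.e_zero, mul_one] at h3
    exact cj1 h3.symm
  · have h3 := S.o_e2 7 1 0 1
    rw [mul_zero, TwF4.e_zero, mul_one] at h3
    exact cj1 h3

include h2 in
theorem yy_xx (i j : Fin 4) : yy S i * xx S j * (yy S i)⁻¹ = if i = j then xx S j * S.e 1 0 1 else xx S j := by
  -- `e 1 1 0` centralises all `xx`
  have hc : ∀ j, S.e 1 1 0 * xx S j * (S.e 1 1 0)⁻¹ = xx S j := by
    rw [Fin.forall_fin_succ, Fin.forall_fin_succ, Fin.forall_fin_two]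
    refine ⟨cj1 (S.o_e1 0 1 1 0).symm, cj1 (S.e_o0 1 1 0 1), ?_, ?_⟩
    · have h := S.e_e1 0 0 1 1 0
      rw [zero_mul, TwF4.o_zero, mul_one] at h
      exact cj1 h.symm
    · have h := S.e_e1 1 1 0 0 1
      rw [mul_zero, TwF4.o_zero, mul_one] at h
      exact cj1 h
  have hz : S.e 1 1 0 * S.e 1 0 1 * (S.e 1 1 0)⁻¹ = S.e 1 0 1 := by
    exact cj1 (e_cc S 1)
  have cjm : ∀ a b c : G, a * b * c * (a * b)⁻¹ = a * (b * c * b⁻¹) * a⁻¹ := fun a b c => by group
  have cjmm : ∀ a b c : G, a * (b * c) * a⁻¹ = (a * b * a⁻¹) * (a * c * a⁻¹) := fun a b c => by group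
  fin_cases i
  · -- `e 1 1 0 * e 2 1 0`
    have hh : ∀ j, S.e 2 1 0 * xx S j * (S.e 2 1 0)⁻¹ = if (0 : Fin 4) = j then xx S j * S.e 1 0 1 else xx S j := by
      rw [Fin.forall_fin_succ, Fin.forall_fin_succ, Fin.forall_fin_two]
      refine ⟨?_, ?_, ?_, ?_⟩
      · rw [if_pos rfl]
        have h := S.o_e2 0 1 1 0
        rw [mul_one] at h
        exact cjA h (TwF4.XB0 S 1 1 0).symm (e0_sq S h2 1)
      · rw [if_neg (by decide)]
        exact cj1 (S.o_e1 1 1 1 0).symm
      · rw [if_neg (by decide)]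
        exact cj1 (S.e_e2 0 0 1 1 0).symm
      · rw [if_neg (by decide)]
        exact cj1 (e_cc S 2)
    show S.e 1 1 0 * S.e 2 1 0 * xx S j * (S.e 1 1 0 * S.e 2 1 0)⁻¹ =
      if (0 : Fin 4) = j then xx S j * S.e 1 0 1 else xx S j
    rw [cjm, hh]
    split_ifs
    · rw [cjmm, hc, hz]
    · rw [hc]
  · have hh : ∀ j, S.e 0 1 0 * xx S j * (S.e 0 1 0)⁻¹ = if (1 : Fin 4) = j then xx S j * S.e 1 0 1 else xx S j := by
      rw [Fin.forall_fin_succ, Fin.forall_fin_succ, Fin.forall_fin_two]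
      refine ⟨?_, ?_, ?_, ?_⟩
      · rw [if_neg (by decide)]
        exact cj1 (S.e_o0 0 1 0 1)
      · rw [if_pos (by decide)]
        have h := S.e_o1 0 1 0 1
        rw [mul_one] at h
        exact cjB h (TwF4.XB1 S 1 1 0).symm
      · rw [if_neg (by decide)]
        exact cj1 (e_cc S 0)
      · rw [if_neg (by decide)]
        exact cj1 (S.e_e2 0 1 0 0 1)
    show S.e 1 1 0 * S.e 0 1 0 * xx S j * (S.e 1 1 0 * S.e 0 1 0)⁻¹ =
      if (1 : Fin 4) = j then xx S j * S.e 1 0 1 else xx S j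
    rw [cjm, hh]
    split_ifs
    · rw [cjmm, hc, hz]
    · rw [hc]
  · show S.o 2 1 * xx S j * (S.o 2 1)⁻¹ = if (2 : Fin 4) = j then xx S j * S.e 1 0 1 else xx S j
    revert j
    rw [Fin.forall_fin_succ, Fin.forall_fin_succ, Fin.forall_fin_two]
    refine ⟨?_, ?_, ?_, ?_⟩
    · rw [if_neg (by decide)]
      exact cj1 (S.o_o2 0 1 1).symm
    · rw [if_neg (by decide)]
      exact cj1 (S.o_o1 1 1 1).symm
    · rw [if_pos (by decide)]
      have h := S.e_o2 0 0 1 1
      rw [zero_mul, zero_mul, zero_mul, map_zero, zero_mul, zero_add, one_mul, TwF4.o_zero, mul_one, TwF4.e_zero,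
        mul_one, zero_add, zero_add] at h
      have h3 := S.e_o1 1 0 1 1
      rw [zero_mul, TwF4.e_zero, mul_one] at h3
      exact cjA h h3.symm (e0_sq S h2 1)
    · rw [if_neg (by decide)]
      exact cj1 (S.e_o0 2 0 1 1).symm
  · show S.o 7 1 * xx S j * (S.o 7 1)⁻¹ = if (3 : Fin 4) = j then xx S j * S.e 1 0 1 else xx S j
    revert j
    rw [Fin.forall_fin_succ, Fin.forall_fin_succ, Fin.forall_fin_two]
    refine ⟨?_, ?_, ?_, ?_⟩
    · rw [if_neg (by decide)]
      exact cj1 (S.o_o1 7 1 1)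
    · rw [if_neg (by decide)]
      exact cj1 (S.o_o2 7 1 1)
    · rw [if_neg (by decide)]
      exact cj1 (S.o_e1 7 1 0 1)
    · rw [if_pos (by decide)]
      have h := S.o_e3 7 1 0 1
      rw [mul_zero, TwF4.e_zero, mul_one, map_zero, mul_zero, TwF4.o_zero, mul_one, mul_zero, zero_add,
        mul_one] at h
      have h3 := S.o_e2 7 1 0 1
      rw [mul_zero, TwF4.e_zero, mul_one] at h3
      exact cjB h h3

include S h2 in
/-- **The bound**, abstract version. -/
theorem bd_sys {k : Type w} [Field k] (hk : ((2 : ℕ) : k) ≠ 0) [Finite G] : Bd k 2 16 ↥(commutator G) := by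
  intro n hn
  have hzG : S.e 1 0 1 ≠ 1 := by
    intro h
    rw [← TwF4.e_zero S 1] at h
    exact one_ne_zero (S.injE 1 0 1 0 0 h).2
  let z : ↥(commutator G) := ⟨S.e 1 0 1, e0_mem S 1⟩
  let x : Fin 4 → ↥(commutator G) := fun i => ⟨xx S i, xx_mem S i⟩
  let y : Fin 4 → ↥(commutator G) := fun i => ⟨yy S i, yy_mem S h2 i⟩
  let c : ∀ (i : Fin 4) (b : Bool), ↥(commutator G) →* ↥(commutator G) :=
    fun i b => (MulAut.conj (if b then y i else 1)).toMonoidHom
  have hcz : ∀ i b, c i b z = z := by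
    intro i b
    cases b
    · show 1 * z * 1⁻¹ = z
      rw [one_mul, inv_one, mul_one]
    · exact Subtype.ext (yy_z S i)
  have hcx : ∀ i b j, i ≠ j → c i b (x j) = x j := by
    intro i b j hij
    cases b
    · show 1 * x j * 1⁻¹ = x j
      rw [one_mul, inv_one, mul_one]
    · refine Subtype.ext ((yy_xx S h2 i j).trans ?_)
      rw [if_neg hij]
  have hcc : ∀ i b, c i b (x i) = if b then x i * z else x i := by
    intro i b
    cases b
    · show 1 * x i * 1⁻¹ = x i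
      rw [one_mul, inv_one, mul_one]
    · refine Subtype.ext ((yy_xx S h2 i i).trans ?_)
      rw [if_pos rfl]; rfl
  have hcxz : ∀ (i : Fin 4) (b : Bool) (j : Fin 4) (b' : Bool), i ≠ j → c i b (if b' then x j * z else x j) = if b' then x j * z else x j := by
    intro i b j b' hij
    cases b'
    · exact hcx i b j hij
    · show c i b (x j * z) = x j * z
      rw [map_mul, hcx i b j hij, hcz]
  have key := bound_transv (ι := Fin 4) hn hk (z := z) (fun h => hzG (congrArg Subtype.val h))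
    (Subtype.ext (e0_sq S h2 1)) x (fun i => Subtype.ext (xx_sq S h2 i)) (fun i => Subtype.ext (xx_z S i))
    (fun i j => Subtype.ext (xx_xx S i j))
    (fun a => (if a 0 then y 0 else 1) * ((if a 1 then y 1 else 1) * ((if a 2 then y 2 else 1) *
      (if a 3 then y 3 else 1))))
    (by
      intro a
      have h1 : ∀ g : ↥(commutator G), (if a 0 then y 0 else 1) * ((if a 1 then y 1 else 1) *
        ((if a 2 then y 2 else 1) * (if a 3 then y 3 else 1))) * g * ((if a 0 then y 0 else 1) *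
        ((if a 1 then y 1 else 1) * ((if a 2 then y 2 else 1) * (if a 3 then y 3 else 1))))⁻¹ =
        c 0 (a 0) (c 1 (a 1) (c 2 (a 2) (c 3 (a 3) g))) := by
        intro g
        show _ = (if a 0 then y 0 else 1) * ((if a 1 then y 1 else 1) * ((if a 2 then y 2 else 1) *
          ((if a 3 then y 3 else 1) * g * (if a 3 then y 3 else 1)⁻¹) * (if a 2 then y 2 else 1)⁻¹) *
          (if a 1 then y 1 else 1)⁻¹) * (if a 0 then y 0 else 1)⁻¹
        group
      rw [h1, hcz, hcz, hcz, hcz])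
    (by
      intro a i
      have h1 : ∀ g : ↥(commutator G), (if a 0 then y 0 else 1) * ((if a 1 then y 1 else 1) *
        ((if a 2 then y 2 else 1) * (if a 3 then y 3 else 1))) * g * ((if a 0 then y 0 else 1) *
        ((if a 1 then y 1 else 1) * ((if a 2 then y 2 else 1) * (if a 3 then y 3 else 1))))⁻¹ =
        c 0 (a 0) (c 1 (a 1) (c 2 (a 2) (c 3 (a 3) g))) := by
        intro g
        show _ = (if a 0 then y 0 else 1) * ((if a 1 then y 1 else 1) * ((if a 2 then y 2 else 1) *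
          ((if a 3 then y 3 else 1) * g * (if a 3 then y 3 else 1)⁻¹) * (if a 2 then y 2 else 1)⁻¹) *
          (if a 1 then y 1 else 1)⁻¹) * (if a 0 then y 0 else 1)⁻¹
        group
      rw [h1]
      revert i
      rw [Fin.forall_fin_succ, Fin.forall_fin_succ, Fin.forall_fin_two]
      refine ⟨?_, ?_, ?_, ?_⟩
      · rw [hcx 3 _ 0 (by decide), hcx 2 _ 0 (by decide), hcx 1 _ 0 (by decide), hcc]
      · show c 0 (a 0) (c 1 (a 1) (c 2 (a 2) (c 3 (a 3) (x 1)))) = if a 1 then x 1 * z else x 1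
        rw [hcx 3 _ 1 (by decide), hcx 2 _ 1 (by decide), hcc, hcxz 0 _ 1 _ (by decide)]
      · show c 0 (a 0) (c 1 (a 1) (c 2 (a 2) (c 3 (a 3) (x 2)))) = if a 2 then x 2 * z else x 2
        rw [hcx 3 _ 2 (by decide), hcc, hcxz 1 _ 2 _ (by decide), hcxz 0 _ 2 _ (by decide)]
      · show c 0 (a 0) (c 1 (a 1) (c 2 (a 2) (c 3 (a 3) (x 3)))) = if a 3 then x 3 * z else x 3
        rw [hcc, hcxz 2 _ 3 _ (by decide), hcxz 1 _ 3 _ (by decide), hcxz 0 _ 3 _ (by decide)])
  rwa [Fintype.card_fin] at key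

end

theorem bd {k : Type w} [Field k] (hk : ((2 : ℕ) : k) ≠ 0) : Bd k 2 16 Cfsg.Lie.TitsGroup := by
  obtain ⟨φ, hφ⟩ := Cfsg.Agent.ChevalleyStructure.TwF4.TwistedFix.exists_rln (K := ZMod 2) (m := 0) (ZMod.card 2)
  rw [pow_zero] at hφ
  have : Finite ↥(Cfsg.Lie.twistedF4 (ZMod 2) 1) := Subtype.finite
  exact bd_sys (sys hφ) (by exact_mod_cast CharP.cast_eq_zero (ZMod 2) 2) hk

instance simple_tits : IsSimpleGroup Cfsg.Lie.TitsGroup := Cfsg.Agent.S1074.result.2.1

/-- **`LS` for the Tits group**: `16`. -/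
theorem ls : LS.{0, v, w} 2 16 Cfsg.Lie.TitsGroup :=
  LS.univ (LS.of_bd (NoR.of_one Cfsg.Agent.S2115.result) fun _ _ hk => bd hk)

end Cfsg.Agent.H95.LSx.Tits
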