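import Mathlib
import Cfsg.Agent.H203.LSDef

/-!
# Linear algebra for `G₂(3)` (helper95, T16)
-/

set_option autoImplicit false

universe u v w u'

namespace Cfsg.Agent.H95.LSx.G23

open Cfsg.Agent.H203.LS

section

variable {k : Type w} [Field k] {V : Type w} [AddCommGroup V] [Module k V]

/-- common eigenvectors in invariant subspaces -/
theorem exists_common_in [IsAlgClosed k] [FiniteDimensional k V] (W : Submodule k V) (hW : W ≠ ⊥) {J : Type u'}
    (f : J → V →ₗ[k] V) (hf : ∀ i j, ∀ v ∈ W, f i (f j v) = f j (f i v)) (hW' : ∀ j, ∀ v ∈ W, f j v ∈ W) :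
    ∃ v ∈ W, v ≠ 0 ∧ ∀ j, ∃ s : k, f j v = s • v := by
  have : Nontrivial W := Submodule.nontrivial_iff_ne_bot.2 hW
  obtain ⟨v, hv, h⟩ := exists_common _ W le_rfl (fun j => (f j).restrict (hW' j)) (fun i j => by
    ext x
    exact hf i j x x.2)
  refine ⟨v, v.2, fun h0 => hv (Subtype.ext h0), fun j => ?_⟩
  obtain ⟨s, hs⟩ := h j
  exact ⟨s, congrArg Subtype.val hs⟩

/-! ### cube roots of unity -/

/-- powers of a cube root of unity -/
def pw (ω : k) (i : ZMod 3) : k := ω ^ i.val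

theorem pw_zero (ω : k) : pw ω 0 = 1 := by simp [pw]
theorem pw_one (ω : k) : pw ω 1 = ω := by
  have : (1 : ZMod 3).val = 1 := rfl
  rw [pw, this, pow_one]

theorem pw_add {ω : k} (h3 : ω ^ 3 = 1) (i j : ZMod 3) : pw ω (i + j) = pw ω i * pw ω j := by
  unfold pw
  rw [← pow_add, ZMod.val_add]
  exact (pow_eq_pow_mod _ h3).symm

theorem pw_mul_neg {ω : k} (h3 : ω ^ 3 = 1) (i : ZMod 3) : pw ω i * pw ω (-i) = 1 := by
  rw [← pw_add h3, add_neg_cancel, pw_zero]

theorem pw_ne_zero {ω : k} (h3 : ω ^ 3 = 1) (i : ZMod 3) : pw ω i ≠ 0 := left_ne_zero_of_mul_eq_one (pw_mul_neg h3 i)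

theorem pw_ne_one {ω : k} (h3 : ω ^ 3 = 1) (h1 : ω ≠ 1) {i : ZMod 3} (hi : i ≠ 0) : pw ω i ≠ 1 := by
  intro h
  have key : ∀ i : ZMod 3, i ≠ 0 → i = 1 ∨ i = -1 := by decide
  rcases key i hi with rfl | rfl
  · rw [pw_one] at h; exact h1 h
  · have h2 := pw_mul_neg h3 1
    rw [h, pw_one, mul_one] at h2
    exact h1 h2

theorem pw_inj {ω : k} (h3 : ω ^ 3 = 1) (h1 : ω ≠ 1) {i j : ZMod 3} (h : pw ω i = pw ω j) : i = j := by
  by_contra hij
  apply pw_ne_one h3 h1 (sub_ne_zero.2 hij)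
  have h2 : pw ω (i - j) * pw ω j = pw ω j := by rw [← pw_add h3, sub_add_cancel, h]
  exact mul_eq_right₀ (pw_ne_zero h3 j) |>.1 h2

theorem exists_pw {ω : k} (h3 : ω ^ 3 = 1) (h1 : ω ≠ 1) {s : k} (hs : s ^ 3 = 1) : ∃ i, s = pw ω i := by
  have hω : ω ^ 2 + ω + 1 = 0 := by
    have h4 : (ω - 1) * (ω ^ 2 + ω + 1) = 0 := by linear_combination h3
    exact (mul_eq_zero.1 h4).resolve_left (sub_ne_zero.2 h1)
  have h5 : (s - 1) * ((s - ω) * (s - ω ^ 2)) = 0 := by
    linear_combination hs - h3 + (s * ω - s ^ 2) * hω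
  rcases mul_eq_zero.1 h5 with h | h
  · exact ⟨0, by rw [pw_zero]; exact sub_eq_zero.1 h⟩
  rcases mul_eq_zero.1 h with h | h
  · exact ⟨1, by rw [pw_one]; exact sub_eq_zero.1 h⟩
  · exact ⟨2, by
      have : (2 : ZMod 3).val = 2 := rfl
      rw [pw, this]; exact sub_eq_zero.1 h⟩

/-- transitivity on the characters -/
theorem trans_chars (N : ZMod 3 × ZMod 3 → Prop) (h1 : ∀ i j, N (i, j) → N (i, j - i))
    (h2 : ∀ i j, N (i, j) → N (i - j, j)) {p q : ZMod 3 × ZMod 3} (hp : p ≠ 0) (hq : q ≠ 0) (h : N p) : N q := by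
  have h1' : ∀ (n : ℕ) (p : ZMod 3 × ZMod 3), N p → N (p.1, p.2 - n * p.1) := by
    intro n
    induction n with
    | zero => intro p hp; simpa using hp
    | succ n ih =>
      intro p hp
      have := h1 _ _ (ih p hp)
      have e : p.2 - n * p.1 - p.1 = p.2 - ((n + 1 : ℕ) : ZMod 3) * p.1 := by push_cast; ring
      rwa [e] at this
  have h2' : ∀ (n : ℕ) (p : ZMod 3 × ZMod 3), N p → N (p.1 - n * p.2, p.2) := by
    intro n
    induction n with
    | zero => intro p hp; simpa using hp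
    | succ n ih =>
      intro p hp
      have := h2 _ _ (ih p hp)
      have e : p.1 - n * p.2 - p.2 = p.1 - ((n + 1 : ℕ) : ZMod 3) * p.2 := by push_cast; ring
      rwa [e] at this
  have key : ∀ p q : ZMod 3 × ZMod 3, p ≠ 0 → q ≠ 0 → ∃ a b c d : Fin 3,
      q = ((p.1 - ((d : ℕ) : ZMod 3) * p.2) - ((b : ℕ) : ZMod 3) * (p.2 - ((c : ℕ) : ZMod 3) * (p.1 - ((d : ℕ) : ZMod 3) * p.2)),
        (p.2 - ((c : ℕ) : ZMod 3) * (p.1 - ((d : ℕ) : ZMod 3) * p.2)) - ((a : ℕ) : ZMod 3) *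
        ((p.1 - ((d : ℕ) : ZMod 3) * p.2) - ((b : ℕ) : ZMod 3) * (p.2 - ((c : ℕ) : ZMod 3) * (p.1 - ((d : ℕ) : ZMod 3) * p.2)))) := by
    decide +kernel
  obtain ⟨a, b, c, d, rfl⟩ := key p q hp hq
  exact h1' a _ (h2' b _ (h1' c _ (h2' d _ h)))

end

/-! ### The two counts -/

section

variable {k : Type w} [Field k] {V : Type w} [AddCommGroup V] [Module k V]
  {L : Type v} [Group L] (ρ : L →* (V →ₗ[k] V))

theorem act_inj (g : L) {v : V} (hv : v ≠ 0) : ρ g v ≠ 0 := by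
  intro h
  apply hv
  have h1 : ρ g⁻¹ (ρ g v) = v := by
    rw [← Module.End.mul_apply, ← map_mul, inv_mul_cancel, map_one, Module.End.one_apply]
  rw [← h1, h, map_zero]

theorem act_mul (g h : L) (v : V) : ρ (g * h) v = ρ g (ρ h v) := by rw [map_mul, Module.End.mul_apply]

theorem act_comm {g h : L} (hgh : g * h = h * g) (v : V) : ρ g (ρ h v) = ρ h (ρ g v) := by
  rw [← act_mul, hgh, act_mul]

/-- inverse eigenvalues -/
theorem act_inv {g : L} {s : k} (hs : s ≠ 0) {v : V} (h : ρ g v = s • v) : ρ g⁻¹ v = s⁻¹ • v := by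
  have h1 : ρ g⁻¹ (ρ g v) = v := by
    rw [← Module.End.mul_apply, ← map_mul, inv_mul_cancel, map_one, Module.End.one_apply]
  rw [h, map_smul] at h1
  calc ρ g⁻¹ v = s⁻¹ • s • ρ g⁻¹ v := by rw [smul_smul, inv_mul_cancel₀ hs, one_smul]
    _ = s⁻¹ • v := by rw [h1]

end

/-- **The count in the noncommuting case**: `27`. -/
theorem count_A {k : Type w} [Field k] [IsAlgClosed k] {V : Type w} [AddCommGroup V] [Module k V]
    [FiniteDimensional k V] {L : Type v} [Group L] (ρ : L →* (V →ₗ[k] V)) [Nontrivial V] {X E F A B C : L}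
    (XE : X * E = E * X) (XF : X * F = F * X) (EF : E * F = F * E) (XB : X * B = B * X) (XC : X * C = C * X)
    (FB : F * B = B * F) (EC : E * C = C * E) {a b c : k} (ha : a ^ 3 = 1) (ha1 : a ≠ 1) (hb : b ^ 3 = 1)
    (hb1 : b ≠ 1) (hc : c ^ 3 = 1) (hc1 : c ≠ 1) (AX : ∀ v, ρ X (ρ A v) = a • ρ A (ρ X v))
    (BE : ∀ v, ρ E (ρ B v) = b • ρ B (ρ E v)) (CF : ∀ v, ρ F (ρ C v) = c • ρ C (ρ F v)) :
    27 ≤ Module.finrank k V := by
  classical
  obtain ⟨x, hx⟩ := Module.End.exists_eigenvalue (ρ X)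
  obtain ⟨v₀, hv₀⟩ := hx.exists_hasEigenvector
  have hX0 : ρ X v₀ = x • v₀ := hv₀.apply_eq_smul
  have hx0 : x ≠ 0 := by
    rintro rfl
    rw [zero_smul] at hX0
    exact act_inj ρ X hv₀.2 hX0
  -- all `X`-eigenvalues
  have hXl : ∀ l : ℕ, ∃ v, v ≠ 0 ∧ ρ X v = (x * a ^ l) • v := by
    intro l
    induction l with
    | zero => exact ⟨v₀, hv₀.2, by rw [pow_zero, mul_one]; exact hX0⟩
    | succ l ih =>
      obtain ⟨v, hv, hv'⟩ := ih
      refine ⟨ρ A v, act_inj ρ A hv, ?_⟩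
      rw [AX, hv', map_smul, smul_smul, pow_succ]
      congr 1
      ring
  -- common eigenvectors
  have hcom : ∀ l : ZMod 3, ∃ (v : V) (e f : k), v ≠ 0 ∧ ρ X v = (x * pw a l) • v ∧ ρ E v = e • v ∧ ρ F v = f • v := by
    intro l
    obtain ⟨v, hv, hv'⟩ := hXl l.val
    let W : Submodule k V := Module.End.eigenspace (ρ X) (x * a ^ l.val)
    have hW : W ≠ ⊥ := by
      intro h
      have h1 : v ∈ W := Module.End.mem_eigenspace_iff.2 hv'
      rw [h] at h1
      exact hv h1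
    obtain ⟨u, hu, hu0, hu'⟩ := exists_common_in W hW (J := Bool) (fun j => if j then ρ E else ρ F) (by
      intro i j v _
      cases i <;> cases j <;> simp only [if_true, if_false, Bool.false_eq_true]
      · exact act_comm ρ EF.symm v
      · exact act_comm ρ EF v) (by
      intro j v hv
      have h1 : ρ X v = (x * a ^ l.val) • v := Module.End.mem_eigenspace_iff.1 hv
      cases j <;> simp only [if_true, if_false, Bool.false_eq_true]
      · refine Module.End.mem_eigenspace_iff.2 ?_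
        rw [act_comm ρ XF, h1, map_smul]
      · refine Module.End.mem_eigenspace_iff.2 ?_
        rw [act_comm ρ XE, h1, map_smul])
    obtain ⟨e, he⟩ := hu' true
    obtain ⟨f, hf⟩ := hu' false
    exact ⟨u, e, f, hu0, Module.End.mem_eigenspace_iff.1 hu, he, hf⟩
  choose u e f hu0 huX huE huF using hcom
  have he0 : ∀ l, e l ≠ 0 := by
    intro l h
    have h1 := huE l
    rw [h, zero_smul] at h1
    exact act_inj ρ E (hu0 l) h1
  have hf0 : ∀ l, f l ≠ 0 := by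
    intro l h
    have h1 := huF l
    rw [h, zero_smul] at h1
    exact act_inj ρ F (hu0 l) h1
  -- translates
  have hB : ∀ (n : ℕ) (v : V) (x e f : k), ρ X v = x • v → ρ E v = e • v → ρ F v = f • v →
      ρ X (ρ (B ^ n) v) = x • ρ (B ^ n) v ∧ ρ E (ρ (B ^ n) v) = (e * b ^ n) • ρ (B ^ n) v ∧
        ρ F (ρ (B ^ n) v) = f • ρ (B ^ n) v := by
    intro n v x e f h1 h2 h3
    induction n with
    | zero => simpa using ⟨h1, h2, h3⟩
    | succ n ih =>
      obtain ⟨i1, i2, i3⟩ := ih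
      rw [pow_succ' B, act_mul]
      refine ⟨?_, ?_, ?_⟩
      · rw [act_comm ρ XB, i1, map_smul]
      · rw [BE, i2, map_smul, smul_smul, pow_succ]
        congr 1; ring
      · rw [act_comm ρ FB, i3, map_smul]
  have hC : ∀ (n : ℕ) (v : V) (x e f : k), ρ X v = x • v → ρ E v = e • v → ρ F v = f • v →
      ρ X (ρ (C ^ n) v) = x • ρ (C ^ n) v ∧ ρ E (ρ (C ^ n) v) = e • ρ (C ^ n) v ∧
        ρ F (ρ (C ^ n) v) = (f * c ^ n) • ρ (C ^ n) v := by
    intro n v x e f h1 h2 h3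
    induction n with
    | zero => simpa using ⟨h1, h2, h3⟩
    | succ n ih =>
      obtain ⟨i1, i2, i3⟩ := ih
      rw [pow_succ' C, act_mul]
      refine ⟨?_, ?_, ?_⟩
      · rw [act_comm ρ XC, i1, map_smul]
      · rw [act_comm ρ EC, i2, map_smul]
      · rw [CF, i3, map_smul, smul_smul, pow_succ]
        congr 1; ring
  have key := card_le_of_weights (ι := ZMod 3 × ZMod 3 × ZMod 3) (J := Fin 3) ![ρ X, ρ E, ρ F]
    (fun i => ρ (B ^ i.2.1.val) (ρ (C ^ i.2.2.val) (u i.1)))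
    (fun i => ![x * pw a i.1, e i.1 * pw b i.2.1, f i.1 * pw c i.2.2])
    (fun i => act_inj ρ _ (act_inj ρ _ (hu0 _))) ?_ ?_
  · simpa [Nat.card_prod, Nat.card_zmod] using key
  · rintro ⟨l, i, j⟩
    obtain ⟨h1, h2, h3⟩ := hC j.val (u l) _ _ _ (huX l) (huE l) (huF l)
    obtain ⟨h4, h5, h6⟩ := hB i.val _ _ _ _ h1 h2 h3
    rw [Fin.forall_fin_succ, Fin.forall_fin_two]
    exact ⟨h4, h5, h6⟩
  · rintro ⟨l, i, j⟩ ⟨l', i', j'⟩ h
    have h1 : x * pw a l = x * pw a l' := congrFun h 0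
    have h2 : e l * pw b i = e l' * pw b i' := congrFun h 1
    have h3 : f l * pw c j = f l' * pw c j' := congrFun h 2
    have hl := pw_inj ha ha1 (mul_left_cancel₀ hx0 h1)
    subst hl
    rw [pw_inj hb hb1 (mul_left_cancel₀ (he0 l) h2), pw_inj hc hc1 (mul_left_cancel₀ (hf0 l) h3)]

theorem pw_sub {k : Type w} [Field k] {ω : k} (h3 : ω ^ 3 = 1) (i j : ZMod 3) : pw ω (i - j) = pw ω i * (pw ω j)⁻¹ := by
  rw [eq_mul_inv_iff_mul_eq₀ (pw_ne_zero h3 j), ← pw_add h3, sub_add_cancel]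

theorem pw_neg {k : Type w} [Field k] {ω : k} (h3 : ω ^ 3 = 1) (i : ZMod 3) : pw ω (-i) = (pw ω i)⁻¹ := by
  rw [← zero_sub, pw_sub h3, pw_zero, one_mul]

/-- eigenvalues of elements of order three -/
theorem eigen_cube {k : Type w} [Field k] {V : Type w} [AddCommGroup V] [Module k V] {L : Type v} [Group L]
    (ρ : L →* (V →ₗ[k] V)) {ω : k} (h3 : ω ^ 3 = 1) (h1 : ω ≠ 1) {g : L} (hg : g ^ 3 = 1) {v : V} (hv : v ≠ 0) {s : k}
    (hs : ρ g v = s • v) : ∃ i, s = pw ω i := by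
  apply exists_pw h3 h1
  have h2 : ρ (g ^ 3) v = (s ^ 3) • v := by
    rw [pow_succ, pow_two, act_mul, act_mul, hs, map_smul, map_smul, hs, map_smul, hs, smul_smul, smul_smul]
    congr 1; ring
  rw [hg, map_one, Module.End.one_apply] at h2
  have h4 : (s ^ 3 - 1) • v = 0 := by rw [sub_smul, ← h2, one_smul, sub_self]
  exact sub_eq_zero.1 ((smul_eq_zero.1 h4).resolve_right hv)

/-- **The count in the commuting case**: `14`. -/
theorem count_B {k : Type w} [Field k] [IsAlgClosed k] {V : Type w} [AddCommGroup V] [Module k V]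
    [FiniteDimensional k V] (hk : ((3 : ℕ) : k) ≠ 0) {L : Type v} [Group L] (ρ : L →* (V →ₗ[k] V))
    {X Y B A A' E F T : L} (hX3 : X ^ 3 = 1) (hE3 : E ^ 3 = 1) (hF3 : F ^ 3 = 1) (hX : ρ X ≠ 1) (hE : ρ E ≠ 1)
    (BY : B * Y = X * Y * B) (XY : X * Y = Y * X) (XB : X * B = B * X) (XE : X * E = E * X) (XF : X * F = F * X)
    (XA : X * A = A * X) (XA' : X * A' = A' * X) (YE : Y * E = E * Y) (YF : Y * F = F * Y) (BE : B * E = E * B)
    (BF : B * F = F * B) (EF : E * F = F * E) (AF : A * F = E * F * A) (AE : A * E = E * A)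
    (A'E : A' * E = F * E * A') (A'F : A' * F = F * A') (TX : T * X * T⁻¹ = X⁻¹) :
    14 ≤ Module.finrank k V := by
  classical
  obtain ⟨ω, hω1, v₀, hv₀, hXv₀⟩ := exists_eigen (f := ρ X) (N := 3) hk (by rw [← map_pow, hX3, map_one]) hX
  have hω : ω ^ 3 = 1 := by
    have h2 : ρ (X ^ 3) v₀ = (ω ^ 3) • v₀ := by
      rw [pow_succ, pow_two, act_mul, act_mul, hXv₀, map_smul, map_smul, hXv₀, map_smul, hXv₀, smul_smul, smul_smul]
      congr 1; ring
    rw [hX3, map_one, Module.End.one_apply] at h2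
    have h4 : (ω ^ 3 - 1) • v₀ = 0 := by rw [sub_smul, ← h2, one_smul, sub_self]
    exact sub_eq_zero.1 ((smul_eq_zero.1 h4).resolve_right hv₀)
  let N : ZMod 3 → ZMod 3 × ZMod 3 → Prop := fun α q => ∃ v, v ≠ 0 ∧ ρ X v = pw ω α • v ∧ ρ E v = pw ω q.1 • v ∧
    ρ F v = pw ω q.2 • v
  -- common eigenvectors in eigenspaces
  have hcom : ∀ (g : L) (s : k) (v : V), v ≠ 0 → ρ g v = s • v → g * X = X * g → g * E = E * g → g * F = F * g →
      ∃ (α : ZMod 3) (q : ZMod 3 × ZMod 3) (u : V), u ≠ 0 ∧ ρ g u = s • u ∧ ρ X u = pw ω α • u ∧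
        ρ E u = pw ω q.1 • u ∧ ρ F u = pw ω q.2 • u := by
    intro g s v hv hgv gX gE gF
    let W : Submodule k V := Module.End.eigenspace (ρ g) s
    have hW : W ≠ ⊥ := by
      intro h
      have h1 : v ∈ W := Module.End.mem_eigenspace_iff.2 hgv
      rw [h] at h1
      exact hv h1
    obtain ⟨u, hu, hu0, hu'⟩ := exists_common_in W hW (J := Fin 3) ![ρ X, ρ E, ρ F] (by
      rw [Fin.forall_fin_succ, Fin.forall_fin_two]
      refine ⟨?_, ?_, ?_⟩ <;> rw [Fin.forall_fin_succ, Fin.forall_fin_two]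
      · exact ⟨fun v _ => rfl, fun v _ => act_comm ρ XE v, fun v _ => act_comm ρ XF v⟩
      · exact ⟨fun v _ => act_comm ρ XE.symm v, fun v _ => rfl, fun v _ => act_comm ρ EF v⟩
      · exact ⟨fun v _ => act_comm ρ XF.symm v, fun v _ => act_comm ρ EF.symm v, fun v _ => rfl⟩) (by
      have key : ∀ h : L, g * h = h * g → ∀ v ∈ W, ρ h v ∈ W := by
        intro h hh v hv
        have h1 : ρ g v = s • v := Module.End.mem_eigenspace_iff.1 hv
        refine Module.End.mem_eigenspace_iff.2 ?_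
        rw [act_comm ρ hh, h1, map_smul]
      rw [Fin.forall_fin_succ, Fin.forall_fin_two]
      exact ⟨key X gX, key E gE, key F gF⟩)
    obtain ⟨x, hx⟩ := hu' 0
    obtain ⟨e, he⟩ := hu' 1
    obtain ⟨f, hf⟩ := hu' 2
    have hx' : ρ X u = x • u := hx
    have he' : ρ E u = e • u := he
    have hf' : ρ F u = f • u := hf
    obtain ⟨α, hα⟩ := eigen_cube ρ hω hω1 hX3 hu0 hx'
    obtain ⟨i, hi⟩ := eigen_cube ρ hω hω1 hE3 hu0 he'
    obtain ⟨j, hj⟩ := eigen_cube ρ hω hω1 hF3 hu0 hf'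
    exact ⟨α, (i, j), u, hu0, Module.End.mem_eigenspace_iff.1 hu, by rw [hx', hα], by rw [he', hi], by rw [hf', hj]⟩
  -- moving the characters
  have hA : ∀ α i j, N α (i, j) → N α (i, j - i) := by
    rintro α i j ⟨v, hv, h1, h2, h3⟩
    have e1 : ρ E (ρ A v) = pw ω i • ρ A v := by rw [act_comm ρ AE.symm, h2, map_smul]
    refine ⟨ρ A v, act_inj ρ A hv, by rw [act_comm ρ XA, h1, map_smul], e1, ?_⟩
    have e2 : F * A = E⁻¹ * (A * F) := by rw [AF]; group
    rw [← act_mul, e2, act_mul, act_mul, h3, map_smul, map_smul, act_inv ρ (pw_ne_zero hω i) e1, smul_smul, pw_sub hω]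
  have hA' : ∀ α i j, N α (i, j) → N α (i - j, j) := by
    rintro α i j ⟨v, hv, h1, h2, h3⟩
    have e1 : ρ F (ρ A' v) = pw ω j • ρ A' v := by rw [act_comm ρ A'F.symm, h3, map_smul]
    refine ⟨ρ A' v, act_inj ρ A' hv, by rw [act_comm ρ XA', h1, map_smul], ?_, e1⟩
    have e2 : E * A' = F⁻¹ * (A' * E) := by rw [A'E]; group
    rw [← act_mul, e2, act_mul, act_mul, h2, map_smul, map_smul, act_inv ρ (pw_ne_zero hω j) e1, smul_smul, pw_sub hω]
  have hN : ∀ α q q', q ≠ 0 → q' ≠ 0 → N α q → N α q' := fun α q q' hq hq' h =>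
    trans_chars (N α) (hA α) (hA' α) hq hq' h
  -- `Y`-eigenvectors
  have hY : ∀ α q, N α q → ∃ (y : k) (v : V), v ≠ 0 ∧ ρ X v = pw ω α • v ∧ ρ E v = pw ω q.1 • v ∧
      ρ F v = pw ω q.2 • v ∧ ρ Y v = y • v := by
    rintro α q ⟨v, hv, h1, h2, h3⟩
    let W : Submodule k V := Module.End.eigenspace (ρ X) (pw ω α) ⊓ (Module.End.eigenspace (ρ E) (pw ω q.1) ⊓
      Module.End.eigenspace (ρ F) (pw ω q.2))
    have hW : W ≠ ⊥ := by
      intro h
      have h4 : v ∈ W := ⟨Module.End.mem_eigenspace_iff.2 h1, Module.End.mem_eigenspace_iff.2 h2,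
        Module.End.mem_eigenspace_iff.2 h3⟩
      rw [h] at h4
      exact hv h4
    obtain ⟨u, hu, hu0, hu'⟩ := exists_common_in W hW (J := Unit) (fun _ => ρ Y) (fun _ _ _ _ => rfl) (by
      rintro - v ⟨hv1, hv2, hv3⟩
      have g1 := Module.End.mem_eigenspace_iff.1 hv1
      have g2 := Module.End.mem_eigenspace_iff.1 hv2
      have g3 := Module.End.mem_eigenspace_iff.1 hv3
      refine ⟨Module.End.mem_eigenspace_iff.2 ?_, Module.End.mem_eigenspace_iff.2 ?_,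
        Module.End.mem_eigenspace_iff.2 ?_⟩
      · rw [act_comm ρ XY, g1, map_smul]
      · rw [act_comm ρ YE.symm, g2, map_smul]
      · rw [act_comm ρ YF.symm, g3, map_smul])
    obtain ⟨y, hy⟩ := hu' ()
    exact ⟨y, u, hu0, Module.End.mem_eigenspace_iff.1 hu.1, Module.End.mem_eigenspace_iff.1 hu.2.1,
      Module.End.mem_eigenspace_iff.1 hu.2.2, hy⟩
  -- `B`-translates
  have hB : ∀ (α : ZMod 3) (q : ZMod 3 × ZMod 3) (y : k) (v : V), ρ X v = pw ω α • v → ρ E v = pw ω q.1 • v →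
      ρ F v = pw ω q.2 • v → ρ Y v = y • v → ∀ n : ℕ, ρ X (ρ (B ^ n) v) = pw ω α • ρ (B ^ n) v ∧
      ρ E (ρ (B ^ n) v) = pw ω q.1 • ρ (B ^ n) v ∧ ρ F (ρ (B ^ n) v) = pw ω q.2 • ρ (B ^ n) v ∧
      ρ Y (ρ (B ^ n) v) = (y * (pw ω (-α)) ^ n) • ρ (B ^ n) v := by
    intro α q y v h1 h2 h3 h4 n
    induction n with
    | zero => simpa using ⟨h1, h2, h3, h4⟩
    | succ n ih =>
      obtain ⟨i1, i2, i3, i4⟩ := ih
      rw [pow_succ' B, act_mul]
      have e0 : ρ X (ρ B (ρ (B ^ n) v)) = pw ω α • ρ B (ρ (B ^ n) v) := by rw [act_comm ρ XB, i1, map_smul]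
      refine ⟨e0, ?_, ?_, ?_⟩
      · rw [act_comm ρ BE.symm, i2, map_smul]
      · rw [act_comm ρ BF.symm, i3, map_smul]
      · have e2 : Y * B = X⁻¹ * (B * Y) := by rw [BY]; group
        rw [← act_mul, e2, act_mul, act_mul, i4, map_smul, map_smul, act_inv ρ (pw_ne_zero hω α) e0, smul_smul,
          pw_neg hω, pow_succ]
        congr 1; ring
  have hpα : ∀ α : ZMod 3, α ≠ 0 → (pw ω (-α)) ^ 3 = 1 ∧ pw ω (-α) ≠ 1 := by
    intro α hα
    refine ⟨?_, pw_ne_one hω hω1 (neg_ne_zero.2 hα)⟩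
    rw [pow_succ, pow_two, ← pw_add hω, ← pw_add hω]
    have : ∀ β : ZMod 3, β + β + β = 0 := by decide
    rw [this, pw_zero]
  have hy0 : ∀ (y : k) (v : V), v ≠ 0 → ρ Y v = y • v → y ≠ 0 := by
    rintro y v hv h rfl
    rw [zero_smul] at h
    exact act_inj ρ Y hv h
  -- the weight vectors
  by_cases hcase : ∃ α q, α ≠ 0 ∧ q ≠ 0 ∧ N α q
  · obtain ⟨α, q, hα, hq, hNq⟩ := hcase
    choose y u hu0 huX huE huF huY using fun q' : {q : ZMod 3 × ZMod 3 // q ≠ 0} => hY α q'.1 (hN α q q'.1 hq q'.2 hNq)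
    have key := card_le_of_weights (ι := {q : ZMod 3 × ZMod 3 // q ≠ 0} × ZMod 3) (J := Fin 3) ![ρ E, ρ F, ρ Y]
      (fun i => ρ (B ^ i.2.val) (u i.1))
      (fun i => ![pw ω i.1.1.1, pw ω i.1.1.2, y i.1 * pw (pw ω (-α)) i.2])
      (fun i => act_inj ρ _ (hu0 _)) ?_ ?_
    · rw [Nat.card_eq_fintype_card] at key
      refine le_trans ?_ key
      decide
    · rintro ⟨q', l⟩
      obtain ⟨-, h2, h3, h4⟩ := hB α q'.1 _ _ (huX q') (huE q') (huF q') (huY q') l.val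
      rw [Fin.forall_fin_succ, Fin.forall_fin_two]
      exact ⟨h2, h3, h4⟩
    · rintro ⟨q', l⟩ ⟨q'', l'⟩ h
      have h1 : pw ω q'.1.1 = pw ω q''.1.1 := congrFun h 0
      have h2 : pw ω q'.1.2 = pw ω q''.1.2 := congrFun h 1
      have h3 : y q' * pw (pw ω (-α)) l = y q'' * pw (pw ω (-α)) l' := congrFun h 2
      have hq : q' = q'' := Subtype.ext (Prod.ext (pw_inj hω hω1 h1) (pw_inj hω hω1 h2))
      subst hq
      rw [pw_inj (hpα α hα).1 (hpα α hα).2 (mul_left_cancel₀ (hy0 _ _ (hu0 _) (huY _)) h3)]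
  · push Not at hcase
    -- nontrivial `X`-characters
    have hN1 : N 1 0 := by
      obtain ⟨α, q, u, hu0, h1, h2, h3, h4⟩ := hcom X (pw ω 1) v₀ hv₀ (by rw [pw_one]; exact hXv₀) rfl XE XF
      have hq : q = 0 := by
        by_contra hq
        exact hcase 1 q (by decide) hq ⟨u, hu0, h1, h3, h4⟩
      subst hq
      exact ⟨u, hu0, h1, h3, h4⟩
    have hN2 : N (-1) 0 := by
      obtain ⟨v, hv, h1, h2, h3⟩ := hN1
      have e1 : ρ X (ρ T⁻¹ v) = pw ω (-1) • ρ T⁻¹ v := by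
        have e2 : X * T⁻¹ = T⁻¹ * X⁻¹ := by rw [← TX]; group
        rw [← act_mul, e2, act_mul, act_inv ρ (pw_ne_zero hω 1) h1, map_smul, pw_neg hω]
      obtain ⟨α, q, u, hu0, h1, h2, h3, h4⟩ := hcom X (pw ω (-1)) _ (act_inj ρ T⁻¹ hv) e1 rfl XE XF
      have hq : q = 0 := by
        by_contra hq
        exact hcase (-1) q (by decide) hq ⟨u, hu0, h1, h3, h4⟩
      subst hq
      exact ⟨u, hu0, h1, h3, h4⟩
    -- nontrivial `E`-characters
    obtain ⟨s, hs1, w₀, hw₀, hEw₀⟩ := exists_eigen (f := ρ E) (N := 3) hk (by rw [← map_pow, hE3, map_one]) hE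
    obtain ⟨α, q, u, hu0, h1, h2, h3, h4⟩ := hcom E s w₀ hw₀ hEw₀ XE.symm rfl EF
    have hq : q ≠ 0 := by
      rintro rfl
      apply hs1
      have h5 : (s - 1) • u = 0 := by
        rw [sub_smul, ← h1, h3]
        show pw ω 0 • u - 1 • u = 0
        rw [pw_zero, sub_self]
      exact sub_eq_zero.1 ((smul_eq_zero.1 h5).resolve_right hu0)
    have hα : α = 0 := by
      by_contra hα
      exact hcase α q hα hq ⟨u, hu0, h2, h3, h4⟩
    subst hα
    have hN0 : ∀ q' : {q : ZMod 3 × ZMod 3 // q ≠ 0}, N 0 q'.1 := fun q' => hN 0 q q'.1 hq q'.2 ⟨u, hu0, h2, h3, h4⟩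
    choose y u hu0 huX huE huF huY using fun q' : {q : ZMod 3 × ZMod 3 // q ≠ 0} => hY 0 q'.1 (hN0 q')
    have hNb : ∀ b : Bool, N (if b then 1 else -1) 0 := by
      intro b
      cases b
      · exact hN2
      · exact hN1
    choose y' u' hu0' huX' huE' huF' huY' using fun b : Bool => hY (if b then 1 else -1) 0 (hNb b)
    have hb0 : ∀ b : Bool, (if b then (1 : ZMod 3) else -1) ≠ 0 := by decide
    have key := card_le_of_weights (ι := {q : ZMod 3 × ZMod 3 // q ≠ 0} ⊕ (Bool × ZMod 3)) (J := Fin 4)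
      ![ρ X, ρ E, ρ F, ρ Y]
      (Sum.elim u (fun i => ρ (B ^ i.2.val) (u' i.1)))
      (Sum.elim (fun q' => ![pw ω 0, pw ω q'.1.1, pw ω q'.1.2, y q'])
        (fun i => ![pw ω (if i.1 then 1 else -1), pw ω 0, pw ω 0,
          y' i.1 * pw (pw ω (-(if i.1 then 1 else -1))) i.2]))
      (by
        rintro (q' | i)
        · exact hu0 q'
        · exact act_inj ρ _ (hu0' _)) ?_ ?_
    · rw [Nat.card_eq_fintype_card] at key
      refine le_trans ?_ key
      decide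
    · rintro (q' | ⟨b, l⟩)
      · rw [Fin.forall_fin_succ, Fin.forall_fin_succ, Fin.forall_fin_two]
        exact ⟨huX q', huE q', huF q', huY q'⟩
      · obtain ⟨h1, h2, h3, h4⟩ := hB _ 0 _ _ (huX' b) (huE' b) (huF' b) (huY' b) l.val
        rw [Fin.forall_fin_succ, Fin.forall_fin_succ, Fin.forall_fin_two]
        exact ⟨h1, h2, h3, h4⟩
    · rintro (q' | ⟨b, l⟩) (q'' | ⟨b', l'⟩) h
      · have h1 : pw ω q'.1.1 = pw ω q''.1.1 := congrFun h 1
        have h2 : pw ω q'.1.2 = pw ω q''.1.2 := congrFun h 2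
        rw [Subtype.ext (Prod.ext (pw_inj hω hω1 h1) (pw_inj hω hω1 h2))]
      · exfalso
        have h1 : pw ω 0 = pw ω (if b' then 1 else -1) := congrFun h 0
        exact hb0 b' (pw_inj hω hω1 h1).symm
      · exfalso
        have h1 : pw ω (if b then 1 else -1) = pw ω 0 := congrFun h 0
        exact hb0 b (pw_inj hω hω1 h1)
      · have h1 : pw ω (if b then 1 else -1) = pw ω (if b' then 1 else -1) := congrFun h 0
        have h2 : y' b * pw (pw ω (-(if b then 1 else -1))) l = y' b' * pw (pw ω (-(if b' then 1 else -1))) l' :=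
          congrFun h 3
        have hbb : ∀ b b' : Bool, (if b then (1 : ZMod 3) else -1) = (if b' then 1 else -1) → b = b' := by decide
        have hb := hbb b b' (pw_inj hω hω1 h1)
        subst hb
        rw [pw_inj (hpα _ (hb0 b)).1 (hpα _ (hb0 b)).2 (mul_left_cancel₀ (hy0 _ _ (hu0' _) (huY' _)) h2)]

end Cfsg.Agent.H95.LSx.G23
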