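import Mathlib
import Cfsg.Agent.H95.LSx.G23Lin
import Cfsg.Agent.H203.LSChev
import Cfsg.Agent.H64.G23Upper
import Cfsg.Agent.H64.ChevField
import Cfsg.Agent.S1055

/-!
# `G₂(3)`: every nontrivial representation of a perfect central extension in characteristic `≠ 3` has degree
at least `14` (helper95, T16)
-/

set_option autoImplicit false

universe u v w u'

namespace Cfsg.Agent.H95.LSx.G23

open Subgroup Cfsg.Agent.H203.LS Cfsg.Agent.H64.G23Upper Cfsg.Lie Cfsg.Agent.ChevalleyStructure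
  Cfsg.Agent.ChevalleyStructure.Elts Cfsg.Agent.KFacts.Mult.Chev
open scoped commutatorElement

/-! ### relations in the group -/

/-- commuting of root groups, by inspection -/
def CmB (r s : ℕ) : Bool := decide (r < 12) && (decide (s < 12) && (decide (s ≠ r) && (decide (s ≠ chevG2.neg r) &&
  (chevG2.commTerms r s).all fun c => decide ((c.2.1 : ZMod 3) = 0))))

theorem wordG_triv : ∀ l : List (ℕ × ZMod 3), (∀ c ∈ l, c.2 = 0) → wordG isType.inList l = 1
  | [], _ => wordG_nil _
  | c :: l, h => by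
    rw [wordG_cons, h c List.mem_cons_self, xG_zero, one_mul, wordG_triv l fun d hd => h d (List.mem_cons_of_mem _ hd)]

theorem cm_of {r s : ℕ} (h : CmB r s = true) (t u : ZMod 3) : xe r t * xe s u = xe s u * xe r t := by
  unfold CmB at h
  simp only [Bool.and_eq_true, decide_eq_true_eq, List.all_eq_true] at h
  obtain ⟨hr, hs, hrs, hneg, h⟩ := h
  have h1 := Cfsg.Agent.Nodes.RGDChev.comm_xG isType (K := ZMod 3) hr hs hrs hneg t u
  have h2 : wordG isType.inList (chevG2.commWord (ZMod 3) r s t u) = 1 := by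
    apply wordG_triv
    intro c hc
    unfold ChevalleyDatum.commWord at hc
    rw [List.mem_map] at hc
    obtain ⟨d, hd, rfl⟩ := hc
    show (d.2.1 : ZMod 3) * (-t) ^ d.2.2.1 * u ^ d.2.2.2 = 0
    rw [h d hd, zero_mul, zero_mul]
  rw [h2, commutatorElement_eq_one_iff_mul_comm] at h1
  apply Subtype.ext
  have h3 := congrArg (fun g => g⁻¹) h1
  simp only [mul_inv_rev, inv_inv] at h3
  exact h3.symm.symm

theorem cm_6_10 : (chevG2.commTerms 10 6) = [(11, -1, 1, 1)] := by decide +kernel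
theorem cm_7_8 : (chevG2.commTerms 8 7) = [(9, 2, 1, 1), (11, 3, 2, 1), (10, -3, 1, 2)] := by decide +kernel
theorem cm_4_9 : (chevG2.commTerms 9 4) = [(8, 2, 1, 1), (11, -3, 2, 1), (6, 3, 1, 2)] := by decide +kernel

/-- commutator relations -/
theorem br_of {r s z : ℕ} (hr : r < 12) (hs : s < 12) (hrs : s ≠ r) (hneg : s ≠ chevG2.neg r)
    (h : wordG isType.inList (chevG2.commWord (ZMod 3) r s 1 1) = xG isType.inList z 1)
    (h1 : CmB z r = true) (h2 : CmB z s = true) : xe s 1 * xe r 1 = xe z 1 * xe r 1 * xe s 1 := by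
  have h3 := Cfsg.Agent.Nodes.RGDChev.comm_xG isType (K := ZMod 3) hr hs hrs hneg 1 1
  rw [h] at h3
  have h4 : (xe s 1)⁻¹ * (xe r 1)⁻¹ * xe s 1 * xe r 1 = xe z 1 := by
    apply Subtype.ext
    rw [commutatorElement_def, inv_inv, inv_inv] at h3
    exact h3
  have h5 : xe s 1 * xe r 1 = xe r 1 * xe s 1 * xe z 1 := by
    rw [← h4]; group
  rw [h5, mul_assoc, ← cm_of h2, ← mul_assoc, ← cm_of h1]

theorem xG_congr {r : ℕ} {t u : ZMod 3} (h : t = u) : xG isType.inList r t = xG isType.inList r u := by rw [h]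

theorem br_6_10 : xe 6 1 * xe 10 1 = xe 11 1 * xe 10 1 * xe 6 1 := by
  refine br_of (by norm_num) (by norm_num) (by norm_num) (by decide +kernel) ?_ (by decide +kernel) (by decide +kernel)
  unfold ChevalleyDatum.commWord
  rw [cm_6_10]
  simp only [List.map_cons, List.map_nil, wordG_cons, wordG_nil, mul_one]
  exact xG_congr (by decide)

theorem br_7_8 : xe 7 1 * xe 8 1 = xe 9 1 * xe 8 1 * xe 7 1 := by
  refine br_of (by norm_num) (by norm_num) (by norm_num) (by decide +kernel) ?_ (by decide +kernel) (by decide +kernel)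
  unfold ChevalleyDatum.commWord
  rw [cm_7_8]
  simp only [List.map_cons, List.map_nil, wordG_cons, wordG_nil]
  rw [xG_congr (r := 11) (u := 0) (by decide), xG_congr (r := 10) (u := 0) (by decide), xG_zero, xG_zero, mul_one,
    mul_one, mul_one]
  exact xG_congr (by decide)

theorem br_4_9 : xe 4 1 * xe 9 1 = xe 8 1 * xe 9 1 * xe 4 1 := by
  refine br_of (by norm_num) (by norm_num) (by norm_num) (by decide +kernel) ?_ (by decide +kernel) (by decide +kernel)
  unfold ChevalleyDatum.commWord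
  rw [cm_4_9]
  simp only [List.map_cons, List.map_nil, wordG_cons, wordG_nil]
  rw [xG_congr (r := 11) (u := 0) (by decide), xG_congr (r := 6) (u := 0) (by decide), xG_zero, xG_zero, mul_one,
    mul_one, mul_one]
  exact xG_congr (by decide)

theorem xe_three (r : ℕ) : xe r 1 ^ 3 = 1 := by
  rw [← xe_pow]
  exact xe_zero r

theorem xe_ne {r : ℕ} (hr : r < 12) : xe r 1 ≠ 1 := by
  intro h
  have h1 := congrArg Subtype.val h
  have h2 : xG isType.inList r (1 : ZMod 3) = xG isType.inList r 0 := by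
    rw [xG_zero]; exact h1
  exact absurd (xG_injective isType.inList (show r < chevG2.nroots from hr) h2) (by decide)

/-! ### strong commuting -/

/-- strong commuting by a torus element, by inspection -/
def ScB (r s : ℕ) : Bool := CmB r s && ([(0, 1), (1, 0), (1, 1)] : List (ℤ × ℤ)).any fun x =>
  decide ((x.1 * chevG2.cartan 0 r + x.2 * chevG2.cartan 1 r) % 2 = 0) &&
    decide ((x.1 * chevG2.cartan 0 s + x.2 * chevG2.cartan 1 s) % 2 = 1)

theorem sc_of {r s : ℕ} (h : ScB r s = true) : SC.{0, v} (xe r 1) (xe s 1) := by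
  unfold ScB at h
  rw [Bool.and_eq_true, List.any_eq_true] at h
  obtain ⟨h1, ⟨a, c⟩, -, h2⟩ := h
  rw [Bool.and_eq_true, decide_eq_true_eq, decide_eq_true_eq] at h2
  obtain ⟨hr, hs⟩ : r < 12 ∧ s < 12 := by
    unfold CmB at h1
    simp only [Bool.and_eq_true, decide_eq_true_eq] at h1
    exact ⟨h1.1, h1.2.1⟩
  refine SC.torus (F := ZMod 3) (β := xe s) (xe_add s) (z := -1) (h := te a c) (by decide) (fun u => cm_of h1 1 u)
    ?_ ?_ 1
  · exact te_comm hr h2.1 (xe_mem r 1)
  · intro u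
    rw [te_conj a c hs, Odd.neg_one_zpow (Int.odd_iff.2 h2.2)]

/-! ### non-commuting orthogonal pairs -/

section

variable {L : Type v} [Group L] {π : L →* Y} (hπ : Function.Surjective π)

include hπ in
theorem Com.step {r s r' s' : ℕ} (i : ℕ) (hi : i < 2) (hr : r < 12) (hs : s < 12)
    (h1 : chevG2.reflectRoot i r = r') (h2 : chevG2.reflectRoot i s = s') (h : Com π r s) : Com π r' s' := by
  rw [← h1, ← h2]
  exact h.refl hπ hr hs i hi

include hπ in
theorem com_8_10 (h : Com π 8 10) : Com π 7 0 := by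
  have h1 := Com.step hπ 0 (by norm_num) (by norm_num) (by norm_num) (r' := 9) (s' := 6) (by decide +kernel)
    (by decide +kernel) h
  have h2 := Com.step hπ 1 (by norm_num) (by norm_num) (by norm_num) (r' := 9) (s' := 5) (by decide +kernel)
    (by decide +kernel) h1
  have h3 := Com.step hπ 0 (by norm_num) (by norm_num) (by norm_num) (r' := 8) (s' := 1) (by decide +kernel)
    (by decide +kernel) h2
  exact Com.step hπ 1 (by norm_num) (by norm_num) (by norm_num) (r' := 7) (s' := 0) (by decide +kernel)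
    (by decide +kernel) h3

include hπ in
theorem com_9_6 (h : Com π 9 6) : Com π 7 0 :=
  com_8_10 hπ (Com.step hπ 0 (by norm_num) (by norm_num) (by norm_num) (r' := 8) (s' := 10) (by decide +kernel)
    (by decide +kernel) h)

include hπ in
theorem com_7_11 (h : Com π 7 11) : Com π 7 0 :=
  com_8_10 hπ (Com.step hπ 1 (by norm_num) (by norm_num) (by norm_num) (r' := 8) (s' := 10) (by decide +kernel)
    (by decide +kernel) h)

/-- if lifts of the generators commute -/
theorem com_of_gen (hc : π.ker ≤ center L) {r s : ℕ} {a b : L} (ha : π a = xe r 1) (hb : π b = xe s 1)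
    (hab : a * b = b * a) : Com π r s := by
  intro x y hx hy
  obtain ⟨i, hi⟩ := exists_pow hx
  obtain ⟨j, hj⟩ := exists_pow hy
  have h1 : Commute (a ^ i) (b ^ j) := Commute.pow_pow (show Commute a b from hab) i j
  have e1 : ∀ u w : L, π u = π w → ∃ c, (∀ g, g * c = c * g) ∧ u = w * c := by
    intro u w h
    refine ⟨w⁻¹ * u, fun g => mem_cen hc (by rw [map_mul, map_inv, h, inv_mul_cancel]) g, by group⟩
  obtain ⟨c, hc1, rfl⟩ := e1 x (a ^ i) (by rw [map_pow, ha, hi])
  obtain ⟨d, hd1, rfl⟩ := e1 y (b ^ j) (by rw [map_pow, hb, hj])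
  calc a ^ i * c * (b ^ j * d) = a ^ i * (c * b ^ j) * d := by group
    _ = a ^ i * b ^ j * (c * d) := by rw [← hc1]; group
    _ = b ^ j * a ^ i * (d * c) := by rw [h1.eq, hd1]
    _ = b ^ j * (a ^ i * d) * c := by group
    _ = b ^ j * d * (a ^ i * c) := by rw [hd1]; group

/-- commutators of order three -/
theorem cube_comm {a b c : L} (h : a * b = c * b * a) (hca : c * a = a * c) (ha : ∀ g, g * a ^ 3 = a ^ 3 * g) :
    c ^ 3 = 1 := by
  have h1 : ∀ n : ℕ, a ^ n * b = c ^ n * b * a ^ n := by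
    intro n
    induction n with
    | zero => simp
    | succ n ih =>
      have h2 : c ^ n * a = a * c ^ n := Commute.pow_left (show Commute c a from hca) n
      calc a ^ (n + 1) * b = a * (a ^ n * b) := by rw [pow_succ', mul_assoc]
        _ = a * (c ^ n * b * a ^ n) := by rw [ih]
        _ = (a * c ^ n) * b * a ^ n := by group
        _ = c ^ n * (a * b) * a ^ n := by rw [← h2]; group
        _ = c ^ n * (c * b * a) * a ^ n := by rw [h]
        _ = c ^ (n + 1) * b * a ^ (n + 1) := by rw [pow_succ c, pow_succ' a]; group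
  have h3 := h1 3
  rw [← ha b, ] at h3
  have h4 : b = c ^ 3 * b := mul_right_cancel h3
  exact right_eq_mul.1 h4

end

/-- **The main case distinction.** -/
theorem main {L : Type v} [Group L] {π : L →* Y} (hπ : Function.Surjective π) (hc : π.ker ≤ center L)
    {k : Type w} [Field k] [IsAlgClosed k] {V : Type w} [AddCommGroup V] [Module k V] [FiniteDimensional k V]
    [Nontrivial V] (hk : ((3 : ℕ) : k) ≠ 0) (ρ : L →* (V →ₗ[k] V)) (hinj : ∀ g, ρ g = 1 → g = 1)
    (hsc : ∀ g, π g = 1 → ∃ s : k, ∀ v, ρ g v = s • v) : 14 ≤ Module.finrank k V := by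
  obtain ⟨A, hA⟩ := hπ (xe 7 1)
  obtain ⟨A', hA'⟩ := hπ (xe 4 1)
  obtain ⟨B, hB⟩ := hπ (xe 6 1)
  obtain ⟨Y₀, hY⟩ := hπ (xe 10 1)
  obtain ⟨F₀, hF₀⟩ := hπ (xe 8 1)
  obtain ⟨T, hT⟩ := hπ (te 1 1)
  -- cubes are central
  have hcube : ∀ (g : L) (r : ℕ), π g = xe r 1 → ∀ x, x * g ^ 3 = g ^ 3 * x := fun g r hg x =>
    mem_cen hc (by rw [map_pow, hg, xe_three]) x
  -- strong commuting
  have hsc2 : ∀ {r s : ℕ} (_ : ScB r s = true) {a b : L}, π a = xe r 1 → π b = xe s 1 → a * b = b * a :=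
    fun h a b ha hb => sc_of h L π hπ hc a b ha hb
  obtain ⟨X, hX⟩ : ∃ X, X = B * Y₀ * B⁻¹ * Y₀⁻¹ := ⟨_, rfl⟩
  obtain ⟨E, hE⟩ : ∃ E, E = A * F₀ * A⁻¹ * F₀⁻¹ := ⟨_, rfl⟩
  have hXπ : π X = xe 11 1 := by
    rw [hX, map_mul, map_mul, map_mul, map_inv, map_inv, hB, hY, br_6_10]; group
  have hEπ : π E = xe 9 1 := by
    rw [hE, map_mul, map_mul, map_mul, map_inv, map_inv, hA, hF₀, br_7_8]; group
  obtain ⟨F, hF⟩ : ∃ F, F = A' * E * A'⁻¹ * E⁻¹ := ⟨_, rfl⟩
  have hFπ : π F = xe 8 1 := by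
    rw [hF, map_mul, map_mul, map_mul, map_inv, map_inv, hA', hEπ, br_4_9]; group
  have XE : X * E = E * X := hsc2 (r := 11) (s := 9) (by decide +kernel) hXπ hEπ
  have XF : X * F = F * X := hsc2 (r := 11) (s := 8) (by decide +kernel) hXπ hFπ
  have XB : X * B = B * X := hsc2 (r := 11) (s := 6) (by decide +kernel) hXπ hB
  have XY : X * Y₀ = Y₀ * X := hsc2 (r := 11) (s := 10) (by decide +kernel) hXπ hY
  have EF : E * F = F * E := hsc2 (r := 9) (s := 8) (by decide +kernel) hEπ hFπ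
  have BF : B * F = F * B := hsc2 (r := 6) (s := 8) (by decide +kernel) hB hFπ
  have YE : Y₀ * E = E * Y₀ := hsc2 (r := 10) (s := 9) (by decide +kernel) hY hEπ
  have AE : A * E = E * A := hsc2 (r := 7) (s := 9) (by decide +kernel) hA hEπ
  have A'F : A' * F = F * A' := hsc2 (r := 4) (s := 8) (by decide +kernel) hA' hFπ
  have BY : B * Y₀ = X * Y₀ * B := by rw [hX]; group
  by_cases h : Com π 7 0
  · -- everything orthogonal commutes
    have hperp : ∀ {r s : ℕ} (_ : r < 12) (_ : s < 12) (_ : Perp r s = true) {a b : L}, π a = xe r 1 → π b = xe s 1 →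
        a * b = b * a := fun hr hs hrs a b ha hb =>
      com_of_perp hπ h hr hs hrs a b (by rw [ha]; exact xe_mem _ _) (by rw [hb]; exact xe_mem _ _)
    have AF : A * F = E * F * A := by
      have h1 : A * F * A⁻¹ * F⁻¹ = E := by rw [hE]; exact comm_eq hc rfl (by rw [hFπ, hF₀])
      rw [← h1]; group
    have A'E : A' * E = F * E * A' := by rw [hF]; group
    refine count_B hk ρ (X := X) (Y := Y₀) (B := B) (A := A) (A' := A') (E := E) (F := F) (T := T) ?_ ?_ ?_ ?_ ?_
      BY XY XB XE XF (hperp (by norm_num) (by norm_num) (by decide +kernel) hXπ hA)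
      (hperp (by norm_num) (by norm_num) (by decide +kernel) hXπ hA') YE
      (hperp (by norm_num) (by norm_num) (by decide +kernel) hY hFπ)
      (hperp (by norm_num) (by norm_num) (by decide +kernel) hB hEπ) BF EF AF AE A'E A'F ?_
    · exact cube_comm BY XB (hcube B 6 hB)
    · exact cube_comm AF AE.symm (hcube A 7 hA)
    · exact cube_comm A'E A'F.symm (hcube A' 4 hA')
    · intro h1
      apply xe_ne (r := 11) (by norm_num)
      rw [← hXπ, hinj X h1, map_one]
    · intro h1
      apply xe_ne (r := 9) (by norm_num)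
      rw [← hEπ, hinj E h1, map_one]
    · -- the torus
      have e1 : π (T * B * T⁻¹) = π B⁻¹ := by
        rw [map_mul, map_mul, map_inv, hT, hB, map_inv, hB, te_conj 1 1 (by norm_num)]
        have e2 : (-1 : ZMod 3) ^ (1 * chevG2.cartan 0 6 + 1 * chevG2.cartan 1 6) = -1 :=
          Odd.neg_one_zpow (Int.odd_iff.2 (by decide +kernel))
        rw [e2, mul_one, eq_comm, inv_eq_iff_mul_eq_one, ← xe_add]
        exact xe_zero 6
      have e3 : π (T * Y₀ * T⁻¹) = π Y₀ := by
        rw [map_mul, map_mul, map_inv, hT, hY, te_conj 1 1 (by norm_num)]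
        have e2 : (-1 : ZMod 3) ^ (1 * chevG2.cartan 0 10 + 1 * chevG2.cartan 1 10) = 1 :=
          Even.neg_one_zpow (Int.even_iff.2 (by decide +kernel))
        rw [e2, mul_one]
      have e4 := comm_eq hc e1 e3
      calc T * X * T⁻¹ = T * B * T⁻¹ * (T * Y₀ * T⁻¹) * (T * B * T⁻¹)⁻¹ * (T * Y₀ * T⁻¹)⁻¹ := by rw [hX]; group
        _ = B⁻¹ * Y₀ * B⁻¹⁻¹ * Y₀⁻¹ := e4
        _ = B⁻¹ * (Y₀ * B) * Y₀⁻¹ := by group
        _ = B⁻¹ * (X⁻¹ * (B * Y₀)) * Y₀⁻¹ := by rw [BY]; group
        _ = B⁻¹ * (X⁻¹ * B) := by group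
        _ = X⁻¹ := by
          have e5 : X⁻¹ * B = B * X⁻¹ := (Commute.inv_left (show Commute X B from XB)).eq
          rw [e5, inv_mul_cancel_left]
  · -- scalars
    have key : ∀ {r s : ℕ} (_ : CmB r s = true) (_ : ¬ Com π r s) {a b : L}, π a = xe r 1 → π b = xe s 1 →
        ∃ c : k, c ^ 3 = 1 ∧ c ≠ 1 ∧ ∀ v, ρ a (ρ b v) = c • ρ b (ρ a v) := by
      intro r s hcm hno a b ha hb
      have h1 : π (a * b * a⁻¹ * b⁻¹) = 1 := by
        rw [map_mul, map_mul, map_mul, map_inv, map_inv, ha, hb, cm_of hcm]; group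
      obtain ⟨c, hc'⟩ := hsc _ h1
      set z := a * b * a⁻¹ * b⁻¹ with hz
      have hab : a * b = z * b * a := by rw [hz]; group
      have hz3 : z ^ 3 = 1 := cube_comm hab (mem_cen hc h1 a).symm (hcube a r ha)
      obtain ⟨v, hv⟩ := exists_ne (0 : V)
      refine ⟨c, ?_, ?_, ?_⟩
      · have h2 : ρ (z ^ 3) v = (c ^ 3) • v := by
          rw [pow_succ, pow_two, act_mul, act_mul, hc', hc', hc', smul_smul, smul_smul]
          congr 1; ring
        rw [hz3, map_one, Module.End.one_apply] at h2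
        have h4 : (c ^ 3 - 1) • v = 0 := by rw [sub_smul, ← h2, one_smul, sub_self]
        exact sub_eq_zero.1 ((smul_eq_zero.1 h4).resolve_right hv)
      · rintro rfl
        apply hno
        have h2 : z = 1 := hinj z (LinearMap.ext fun v => by rw [hc', one_smul, Module.End.one_apply])
        rw [h2, one_mul] at hab
        exact com_of_gen hc ha hb hab
      · intro v
        rw [← act_mul, hab, mul_assoc, act_mul, hc', act_mul]
    obtain ⟨a, ha3, ha1, haX⟩ := key (r := 11) (s := 7) (by decide +kernel)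
      (fun h1 => h (com_7_11 hπ h1.symm)) hXπ hA
    obtain ⟨b, hb3, hb1, hbE⟩ := key (r := 9) (s := 6) (by decide +kernel)
      (fun h1 => h (com_9_6 hπ h1)) hEπ hB
    obtain ⟨c, hc3, hc1, hcF⟩ := key (r := 8) (s := 10) (by decide +kernel)
      (fun h1 => h (com_8_10 hπ h1)) hFπ hY
    exact (count_A ρ XE XF EF XB XY BF.symm YE.symm ha3 ha1 hb3 hb1 hc3 hc1 haX hbE hcF).trans' (by norm_num)

/-- **`LS` for `G₂(3)`** over `ZMod 3`: `14`. -/
theorem ls_zmod : LS.{0, v, w} 3 14 ↥(chevG2.group (ZMod 3)) := by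
  have hs : IsSimpleGroup ↥(chevG2.group (ZMod 3)) :=
    (Cfsg.Agent.S1055.result (F := ZMod 3) ⟨-1, by decide, by decide⟩).1
  apply LS.of_core
  intro P _ π k _ _ V _ _ _ ρ hC
  have hle : ρ.ker ≤ π.ker := by
    intro g hg
    by_contra hg'
    exact hC.ne_one (fun h => hg' (MonoidHom.mem_ker.2 h)) (MonoidHom.mem_ker.1 hg)
  have hnt : Nontrivial V := by
    obtain ⟨g, hg⟩ := hC.ne
    by_contra hcon
    rw [not_nontrivial_iff_subsingleton] at hcon
    exact hg (Subsingleton.elim _ _)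
  refine main (L := P ⧸ ρ.ker) (π := QuotientGroup.lift ρ.ker π hle) ?_ ?_ hC.rk
    (QuotientGroup.lift ρ.ker ρ le_rfl) ?_ ?_
  · intro y
    obtain ⟨g, hg⟩ := hC.surj y
    exact ⟨QuotientGroup.mk g, hg⟩
  · intro x hx
    obtain ⟨g, rfl⟩ := QuotientGroup.mk_surjective x
    have hg : π g = 1 := hx
    rw [mem_center_iff]
    intro y
    obtain ⟨y, rfl⟩ := QuotientGroup.mk_surjective y
    show ((y * g : P) : P ⧸ ρ.ker) = ((g * y : P) : P ⧸ ρ.ker)
    rw [hC.comm_ker hg y]
  · intro x hx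
    obtain ⟨g, rfl⟩ := QuotientGroup.mk_surjective x
    exact (QuotientGroup.eq_one_iff g).2 (MonoidHom.mem_ker.2 hx)
  · intro x hx
    obtain ⟨g, rfl⟩ := QuotientGroup.mk_surjective x
    exact hC.sc g (hC.comm_ker hx)

/-- **`LS` for `G₂(3)`**: `14`. -/
theorem ls {K : Type u} [Field K] [Fintype K] (hK : Fintype.card K = 3) : LS.{u, v, w} 3 14 ↥(chevG2.group K) :=
  LS.congr (Cfsg.Agent.H64.ChevField.groupCongr (FiniteField.ringEquivOfCardEq (by rw [ZMod.card, hK])) chevG2) ls_zmod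

end Cfsg.Agent.H95.LSx.G23
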