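import Mathlib
import Cfsg.Agent.H95.LSx.Sub
import Cfsg.Agent.H912.BdOrth1
import Cfsg.Agent.H912.BdSL
import Cfsg.Agent.S2086
import Cfsg.Agent.S0249
import Cfsg.Agent.S0295
import Cfsg.Agent.S0302

/-!
# `Ω₇(3)`: every nontrivial representation of a perfect central extension in characteristic `≠ 3` has degree
at least `26` (helper95, T16)

It contains `Ω⁺₆(3)`, a central extension of `L₄(3)`, whose multiplier has order `2`.
-/

set_option autoImplicit false

universe u v w

namespace Cfsg.Agent.H95.LSx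

open Subgroup Cfsg.Agent.H203.LS Cfsg.Agent.H912.Bd

theorem ls_psl43 {K : Type} [Field K] [Fintype K] (hK : Fintype.card K = 3) :
    LS.{0, v, w} 3 26 (Matrix.ProjectiveSpecialLinearGroup (Fin 4) K) := by
  have : IsSimpleGroup (Matrix.ProjectiveSpecialLinearGroup (Fin 4) K) := Cfsg.Agent.S0249.result 4 (by norm_num)
  have hchar : CharP K 3 := charP_of_card_eq_prime hK
  have hN : NoR.{w} 3 (Matrix.ProjectiveSpecialLinearGroup (Fin 4) K) :=
    NoR.of_cyclic (Cfsg.Agent.S2086.result (F := K) hK 4 (by norm_num) (by norm_num) (by norm_num)) (by norm_num)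
  refine LS.univ (LS.of_bd hN fun k _ hk => ?_)
  have h1 := bd_psl (F := k) Nat.prime_three hk (m := 4) (by norm_num) (K := K) hchar
  rw [hK] at h1
  exact h1

/-- **`LS` for `Ω₇(3)`**: `26`. -/
theorem ls_o73 {K : Type} [Field K] [Fintype K] (hK : Fintype.card K = 3) :
    LS.{0, v, w} 3 26 (Cfsg.POmega K (Cfsg.quadFormOdd 3 K)) := by
  have : IsSimpleGroup (Cfsg.POmega K (Cfsg.quadFormOdd 3 K)) :=
    Cfsg.Agent.S0295.result (by rw [hK]; decide) 3 le_rfl
  obtain ⟨e⟩ := Cfsg.Agent.S0302.result (F := K)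
  obtain ⟨f, hf⟩ := exists_odd (K := K) (m := 3) (n := 3) le_rfl
  have h4 : IsSimpleGroup (Matrix.ProjectiveSpecialLinearGroup (Fin 4) K) := Cfsg.Agent.S0249.result 4 (by norm_num)
  have hp : commutator (Matrix.ProjectiveSpecialLinearGroup (Fin 4) K) = ⊤ :=
    perfect_of_surj (Cfsg.Agent.LieClassical.SLGen.commutator_eq_top (by rw [Fintype.card_fin]; norm_num))
      (QuotientGroup.mk'_surjective (center (Matrix.SpecialLinearGroup (Fin 4) K)))
  have hker : (e.toMonoidHom.comp (QuotientGroup.mk' (center (Cfsg.Omega K (Cfsg.quadFormPlus 3 K))))).ker ≤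
      center (Cfsg.Omega K (Cfsg.quadFormPlus 3 K)) := by
    intro x hx
    rw [MonoidHom.mem_ker, MonoidHom.comp_apply] at hx
    have h1 : QuotientGroup.mk' (center (Cfsg.Omega K (Cfsg.quadFormPlus 3 K))) x = 1 := e.map_eq_one_iff.1 hx
    exact (QuotientGroup.eq_one_iff x).1 h1
  exact LS.of_hom_center hp (e.toMonoidHom.comp (QuotientGroup.mk' _))
    (e.surjective.comp (QuotientGroup.mk'_surjective _)) hker f hf (ls_psl43 hK)

end Cfsg.Agent.H95.LSx
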