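import Mathlib
import Cfsg.Agent.H203.LSHeisG

/-!
# The bound `2 ^ m` from a system of pairs `x i`, `s i` with a common commutator (helper95, T16)
-/

set_option autoImplicit false

universe u v w

namespace Cfsg.Agent.H95.LSx

open Subgroup Cfsg.Agent.H203.LS

/-- commutators with central elements -/
theorem comm_one_left {P : Type v} {T : Type u} [Group P] [Group T] {π : P →* T} (hc : π.ker ≤ center P) {p q : P}
    (h : π p = 1) : p * q * p⁻¹ * q⁻¹ = 1 := by
  rw [← mem_cen hc h q, mul_inv_cancel_right, mul_inv_cancel]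

theorem comm_one_right {P : Type v} {T : Type u} [Group P] [Group T] {π : P →* T} (hc : π.ker ≤ center P) {p q : P}
    (h : π q = 1) : p * q * p⁻¹ * q⁻¹ = 1 := by
  rw [mem_cen hc h p, mul_inv_cancel_right, mul_inv_cancel]

/-- **The bound `2 ^ m`**: `[x i, s i] = z`, all other pairs commute strongly. -/
theorem ls_pairs {T : Type u} [Group T] [IsSimpleGroup T] {ι : Type} [Fintype ι] [DecidableEq ι] {z : T}
    (hz : z ≠ 1) {x s : ι → T} (hxs : ∀ i, x i * s i * (x i)⁻¹ * (s i)⁻¹ = z)
    (zx : ∀ i, SC.{u, v} z (x i)) (zs : ∀ i, SC.{u, v} z (s i)) (xx : ∀ i j, SC.{u, v} (x i) (x j))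
    (sx : ∀ i j, i ≠ j → SC.{u, v} (s i) (x j)) (i₀ : ι) (hsq : SC.{u, v} (x i₀ * x i₀) (s i₀))
    (hun : ∀ i, ∃ g : T, g * x i₀ * g⁻¹ = x i ∧ g * s i₀ * g⁻¹ = s i ∧ SC.{u, v} g z) :
    LS.{u, v, w} 2 (2 ^ Fintype.card ι) T := by
  have key := LS.heisG.{u, v, w, 0, 0} (r := 2) (T := T) (ι := ι) (S := ZMod 2) (M := fun _ => ZMod 2)
    (N := fun _ => ZMod 2)
    (X := fun t => if t = 0 then 1 else z) (A := fun i t => if t = 0 then 1 else x i)
    (B := fun i t => if t = 0 then 1 else s i) (β := fun _ a b => a * b) ?_ ?_ (s₀ := 1) (by simpa using hz) ?_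
    (o := fun _ => 0) (fun _ => if_pos rfl) (τ := Unit) (fun _ => 1) (fun _ t => t) ?_ (fun _ _ a => a)
    (fun _ _ => Function.surjective_id) (fun _ i a => by rw [inv_one, one_mul, mul_one]) (i₀ := i₀) (fun _ b => b)
    (fun t => ⟨1, t, one_mul t⟩) (fun _ b => by rw [inv_one, one_mul, mul_one]) (fun _ _ _ => rfl)
  · simpa [ZMod.card] using key
  · refine ⟨?_, ?_, ?_, ?_, ?_, ?_⟩
    · intro a b
      split_ifs
      · exact SC.one_left _
      · exact SC.one_left _
      · exact (SC.one_left _).symm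
      · exact SC.refl _
    · intro i a b
      split_ifs
      · exact SC.one_left _
      · exact SC.one_left _
      · exact (SC.one_left _).symm
      · exact zx i
    · intro i a b
      split_ifs
      · exact SC.one_left _
      · exact SC.one_left _
      · exact (SC.one_left _).symm
      · exact zs i
    · intro i j a b
      split_ifs
      · exact SC.one_left _
      · exact SC.one_left _
      · exact (SC.one_left _).symm
      · exact xx i j
    · intro i j hij a b
      split_ifs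
      · exact SC.one_left _
      · exact SC.one_left _
      · exact (SC.one_left _).symm
      · exact sx i j hij
    · intro P _ π hπ hc
      obtain ⟨p, hp⟩ := hπ (x i₀)
      obtain ⟨q, hq⟩ := hπ (s i₀)
      set d := p * q * p⁻¹ * q⁻¹ with hd
      have hdz : π d = z := by rw [hd, map_mul, map_mul, map_mul, map_inv, map_inv, hp, hq, hxs]
      have hdp : d * p = p * d := zx i₀ P π hπ hc d p hdz hp
      have hdq : d * q = q * d := zs i₀ P π hπ hc d q hdz hq
      have hd2 : d * d = 1 := by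
        have h1 : p * p * q = q * (p * p) := hsq P π hπ hc (p * p) q (by rw [map_mul, hp]) hq
        have h2 : p * q * p⁻¹ = d * q := by rw [hd]; group
        have h3 : p * (p * q * p⁻¹) * p⁻¹ = q := by
          calc p * (p * q * p⁻¹) * p⁻¹ = (p * p * q) * (p * p)⁻¹ := by group
            _ = q := by rw [h1, mul_inv_cancel_right]
        rw [h2] at h3
        have h4 : p * (d * q) * p⁻¹ = d * (d * q) := by
          calc p * (d * q) * p⁻¹ = (p * d) * q * p⁻¹ := by group
            _ = d * (p * q * p⁻¹) := by rw [← hdp]; group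
            _ = _ := by rw [h2]
        rw [h4, ← mul_assoc] at h3
        exact mul_eq_right.1 h3
      refine ⟨fun t => if t = 0 then 1 else d, ?_, ?_, ?_⟩
      · intro t
        show π (if t = 0 then 1 else d) = if t = 0 then 1 else z
        split_ifs
        · exact map_one π
        · exact hdz
      · intro a b
        have h2 : ∀ t : ZMod 2, t = 0 ∨ t = 1 := by decide
        rcases h2 a with rfl | rfl <;> rcases h2 b with rfl | rfl
        · simp
        · simp
        · simp
        · show (if (1 + 1 : ZMod 2) = 0 then 1 else d) = (if (1 : ZMod 2) = 0 then 1 else d) *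
            if (1 : ZMod 2) = 0 then 1 else d
          have h3 : (1 : ZMod 2) + 1 = 0 := rfl
          rw [if_pos h3, if_neg one_ne_zero, hd2]
      · intro i a b p' q' hp' hq'
        have h2 : ∀ t : ZMod 2, t = 0 ∨ t = 1 := by decide
        rcases h2 a with rfl | rfl
        · rw [if_pos rfl] at hp'
          show _ = if (0 * b : ZMod 2) = 0 then 1 else d
          rw [if_pos (zero_mul b)]
          exact comm_one_left hc hp'
        rcases h2 b with rfl | rfl
        · rw [if_pos rfl] at hq'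
          show _ = if (1 * 0 : ZMod 2) = 0 then 1 else d
          rw [if_pos (mul_zero 1)]
          exact comm_one_right hc hq'
        rw [if_neg one_ne_zero] at hp' hq'
        show _ = if (1 * 1 : ZMod 2) = 0 then 1 else d
        rw [if_neg (show (1 * 1 : ZMod 2) ≠ 0 by decide)]
        obtain ⟨g, hg1, hg2, hg3⟩ := hun i
        obtain ⟨g', rfl⟩ := hπ g
        rw [comm_eq hc (a' := g' * p * g'⁻¹) (b' := g' * q * g'⁻¹)
          (by rw [hp', map_mul, map_mul, map_inv, hp, hg1]) (by rw [hq', map_mul, map_mul, map_inv, hq, hg2])]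
        have h5 : g' * d = d * g' := hg3 P π hπ hc g' d rfl hdz
        calc g' * p * g'⁻¹ * (g' * q * g'⁻¹) * (g' * p * g'⁻¹)⁻¹ * (g' * q * g'⁻¹)⁻¹
            = g' * (p * q * p⁻¹ * q⁻¹) * g'⁻¹ := by group
          _ = g' * d * g'⁻¹ := by rw [← hd]
          _ = d := by rw [h5, mul_inv_cancel_right]
  · intro t
    rw [two_smul]
    exact CharTwo.add_self_eq_zero t
  · intro i n n' hnn t
    revert n n' t
    decide
  · intro t t' h
    exact absurd (Subsingleton.elim t t') h

theorem comm_of_eq {T : Type u} [Group T] {a b c : T} (h : a * b = c * b * a) : a * b * a⁻¹ * b⁻¹ = c := by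
  rw [h, mul_inv_cancel_right, mul_inv_cancel_right]

/-- **The bound `2 ^ m`, for a system of quaternion groups.** -/
theorem ls_quat {T : Type u} [Group T] [IsSimpleGroup T] {ι : Type} [Fintype ι] [DecidableEq ι] [Nonempty ι]
    (h3 : ∀ a b : ι, ∃ d, d ≠ a ∧ d ≠ b) {z : T} (hz : z ≠ 1) {x s : ι → T} {D g : ι → ι → T}
    (r1 : ∀ a, x a * s a = z * s a * x a)
    (r2 : ∀ a d, a ≠ d → D a d * s a = x a * s a * D a d)
    (r3 : ∀ a d b, a ≠ d → b ≠ a → b ≠ d → D a d * x b = x b * D a d ∧ D a d * s b = s b * D a d)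
    (r4 : ∀ a b, a ≠ b → x a * x b = x b * x a ∧ x a * s b = s b * x a ∧ s a * s b = s b * s a)
    (r5 : ∀ a, x a * x a = z)
    (r6 : ∀ a b, a ≠ b → g a b * x a = x b * g a b ∧ g a b * s a = s b * g a b)
    (r7 : ∀ a b d, a ≠ b → d ≠ a → d ≠ b → g a b * x d = x d * g a b ∧ g a b * s d = s d * g a b) :
    LS.{u, v, w} 2 (2 ^ Fintype.card ι) T := by
  obtain ⟨i₀⟩ := (inferInstance : Nonempty ι)
  have hxs : ∀ a, x a * s a * (x a)⁻¹ * (s a)⁻¹ = z := fun a => comm_of_eq (r1 a)
  have hD : ∀ a d, a ≠ d → D a d * s a * (D a d)⁻¹ * (s a)⁻¹ = x a := fun a d had => comm_of_eq (r2 a d had)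
  have xx : ∀ a b, SC.{u, v} (x a) (x b) := by
    intro a b
    by_cases hab : a = b
    · rw [hab]; exact SC.refl _
    obtain ⟨d, hda, hdb⟩ := h3 a b
    rw [← hD a d hda.symm]
    exact SC.of_commutator (r3 a d b hda.symm (Ne.symm hab) hdb.symm).1 (r4 b a (Ne.symm hab)).2.1.symm
  have xs : ∀ a b, a ≠ b → SC.{u, v} (x a) (s b) := by
    intro a b hab
    obtain ⟨d, hda, hdb⟩ := h3 a b
    rw [← hD a d hda.symm]
    exact SC.of_commutator (r3 a d b hda.symm (Ne.symm hab) hdb.symm).2 (r4 a b hab).2.2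
  have zx : ∀ a, SC.{u, v} z (x a) := by
    intro a
    obtain ⟨b, hba, -⟩ := h3 a a
    rw [← hxs b]
    exact SC.of_commutator (r4 b a hba).1 (r4 a b hba.symm).2.1.symm
  have zs : ∀ a, SC.{u, v} z (s a) := by
    intro a
    obtain ⟨b, hba, -⟩ := h3 a a
    rw [← hxs b]
    exact SC.of_commutator (r4 b a hba).2.1 (r4 b a hba).2.2
  refine ls_pairs hz hxs zx zs xx (fun i j hij => (xs j i (Ne.symm hij)).symm) i₀ (by rw [r5]; exact zs i₀) ?_
  intro i
  by_cases hi : i₀ = i
  · rw [← hi]
    exact ⟨1, by group, by group, SC.one_left _⟩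
  obtain ⟨d, hd1, hd2⟩ := h3 i₀ i
  refine ⟨g i₀ i, ?_, ?_, ?_⟩
  · rw [(r6 i₀ i hi).1, mul_inv_cancel_right]
  · rw [(r6 i₀ i hi).2, mul_inv_cancel_right]
  · rw [← hxs d]
    exact (SC.of_commutator (r7 i₀ i d hi hd1 hd2).1.symm (r7 i₀ i d hi hd1 hd2).2.symm).symm

end Cfsg.Agent.H95.LSx
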