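import Mathlib
import Cfsg.Prelude.Def_Classical
import Cfsg.Agent.H95.LSx.Quat
import Cfsg.Agent.S0283

/-!
# Unitary groups over `GF(4)`: the bound `2 ^ (n - 2)`, arbitrary kernels (helper95, T16)

Siegel elements `E v w c : x ↦ x + h(v,x) w - h(w,x) v - c h(v,x) v`.
-/

set_option autoImplicit false

universe u v w

namespace Cfsg.Agent.H95.LSx.Uni

open Matrix Cfsg.Agent.H203.LS

section

variable {K : Type u} [Field K] {n : ℕ} (σ : K →+* K)

/-- the Hermitian form, linear in the second variable -/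
def h (x y : Fin n → K) : K := ∑ i, σ (x i) * y i

theorem h_add (x y z : Fin n → K) : h σ x (y + z) = h σ x y + h σ x z := by
  simp only [h, Pi.add_apply, mul_add, Finset.sum_add_distrib]

theorem h_smul (x y : Fin n → K) (a : K) : h σ x (a • y) = a * h σ x y := by
  simp only [h, Pi.smul_apply, smul_eq_mul, Finset.mul_sum]
  exact Finset.sum_congr rfl fun i _ => by ring

theorem h_sub (x y z : Fin n → K) : h σ x (y - z) = h σ x y - h σ x z := by
  simp only [h, Pi.sub_apply, mul_sub, Finset.sum_sub_distrib]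

theorem h_add' (x y z : Fin n → K) : h σ (x + y) z = h σ x z + h σ y z := by
  simp only [h, Pi.add_apply, map_add, add_mul, Finset.sum_add_distrib]

theorem h_sub' (x y z : Fin n → K) : h σ (x - y) z = h σ x z - h σ y z := by
  simp only [h, Pi.sub_apply, map_sub, sub_mul, Finset.sum_sub_distrib]

theorem h_smul' (x y : Fin n → K) (a : K) : h σ (a • x) y = σ a * h σ x y := by
  simp only [h, Pi.smul_apply, smul_eq_mul, map_mul, Finset.mul_sum, mul_assoc]

variable {σ} (hσ : ∀ x, σ (σ x) = x)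

include hσ in
theorem h_symm (x y : Fin n → K) : h σ y x = σ (h σ x y) := by
  simp only [h, map_sum, map_mul, hσ]
  exact Finset.sum_congr rfl fun i _ => mul_comm _ _

variable (σ) in
/-- the Siegel element -/
def eL (v w : Fin n → K) (c : K) : (Fin n → K) →ₗ[K] (Fin n → K) where
  toFun x := x + h σ v x • w - h σ w x • v - (c * h σ v x) • v
  map_add' x y := by
    simp only [h_add]
    module
  map_smul' a x := by
    simp only [h_smul, RingHom.id_apply]
    module

variable (σ) in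
/-- the Siegel element -/
noncomputable def E (v w : Fin n → K) (c : K) : Matrix (Fin n) (Fin n) K := LinearMap.toMatrix' (eL σ v w c)

theorem E_mulVec (v w : Fin n → K) (c : K) (x : Fin n → K) :
    E σ v w c *ᵥ x = x + h σ v x • w - h σ w x • v - (c * h σ v x) • v := by
  rw [E, LinearMap.toMatrix'_mulVec]
  rfl

theorem ext_mulVec {A B : Matrix (Fin n) (Fin n) K} (h : ∀ x, A *ᵥ x = B *ᵥ x) : A = B := by
  apply Matrix.toLin'.injective
  exact LinearMap.ext fun x => by simpa using h x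

theorem E_mul {v w w' : Fin n → K} {c c' : K} (h1 : h σ v v = 0) (h2 : h σ v w' = 0) (h3 : h σ w v = 0) :
    E σ v w c * E σ v w' c' = E σ v (w + w') (c + c' + h σ w w') := by
  apply ext_mulVec
  intro x
  rw [← mulVec_mulVec]
  simp only [E_mulVec, h_add, h_sub, h_smul, h_add', h1, h2, h3, mul_zero, sub_zero, add_zero]
  module

theorem E_zero (v : Fin n → K) : E σ v 0 0 = 1 := by
  apply ext_mulVec
  intro x
  have h0 : h σ (0 : Fin n → K) x = 0 := by simp [h]
  rw [E_mulVec, one_mulVec, h0]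
  module

include hσ in
theorem E_unitary {v w : Fin n → K} {c : K} (h1 : h σ v v = 0) (h2 : h σ v w = 0) (h3 : c + σ c = h σ w w)
    (x y : Fin n → K) : h σ (E σ v w c *ᵥ x) (E σ v w c *ᵥ y) = h σ x y := by
  have h2' : h σ w v = 0 := by rw [h_symm hσ v w, h2, map_zero]
  simp only [E_mulVec, h_add, h_sub, h_smul, h_add', h_sub', h_smul', h1, h2, h2', map_mul]
  rw [← h_symm hσ v x, ← h_symm hσ w x, ← h3]
  ring

/-- conjugation by a unitary matrix -/
theorem conj_E {A : Matrix (Fin n) (Fin n) K} (hA : ∀ x y, h σ (A *ᵥ x) (A *ᵥ y) = h σ x y) (v w : Fin n → K) (c : K) :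
    A * E σ v w c = E σ (A *ᵥ v) (A *ᵥ w) c * A := by
  apply ext_mulVec
  intro x
  rw [← mulVec_mulVec, ← mulVec_mulVec, E_mulVec, E_mulVec, hA, hA]
  simp only [mulVec_add, mulVec_sub, mulVec_smul]

end

/-! ### the field with four elements -/

section

variable {K : Type u} [Field K] {n : ℕ} {σ : K →+* K} (hσ : ∀ x, σ (σ x) = x) (hs : ∀ x, σ x = x ^ 2)
  (h4 : ∀ x : K, x ≠ 0 → x ^ 3 = 1) (h2 : (2 : K) = 0)

include h2 in
theorem add_self (x : K) : x + x = 0 := by linear_combination x * h2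

include h4 h2 in
theorem det_E {v w : Fin n → K} {c : K} (h1 : h σ v v = 0) (h2' : h σ v w = 0) (h3 : h σ w v = 0) :
    (E σ v w c).det = 1 := by
  have e1 : E σ v w c * E σ v w c = E σ v 0 (h σ w w) := by
    rw [E_mul h1 h2' h3, add_self h2 c, zero_add]
    congr 1
    funext i
    exact add_self h2 _
  have h0 : h σ (0 : Fin n → K) 0 = 0 := by simp [h]
  have e2 : (E σ v 0 (h σ w w)) * E σ v 0 (h σ w w) = 1 := by
    rw [E_mul h1 (by simp [h]) (by simp [h]), add_self h2 (h σ w w), h0, add_zero, add_zero, E_zero]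
  have e3 : (E σ v w c).det ^ 4 = 1 := by
    calc (E σ v w c).det ^ 4 = ((E σ v w c * E σ v w c) * (E σ v w c * E σ v w c)).det := by
          rw [det_mul, det_mul]; ring
      _ = 1 := by rw [e1, e2, det_one]
  have hne : (E σ v w c).det ≠ 0 := by
    intro h0
    rw [h0] at e3
    norm_num at e3
  have e4 := h4 _ hne
  rw [pow_succ, e4, one_mul] at e3
  exact e3

/-- elements of `SU` -/
def mkSU (hs : ∀ x, σ x = x ^ 2) (A : Matrix (Fin n) (Fin n) K) (hd : A.det = 1)
    (hA : ∀ x y, h σ (A *ᵥ x) (A *ᵥ y) = h σ x y) : Cfsg.SU n K 2 :=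
  ⟨⟨A, hd⟩, by
    intro u v
    have h1 : ∀ u v : Fin n → K, Cfsg.hermForm n K 2 u v = h σ v u := by
      intro u v
      simp only [Cfsg.hermForm, h, hs]
      exact Finset.sum_congr rfl fun i _ => mul_comm _ _
    rw [h1, h1]
    exact hA v u⟩

theorem mkSU_ext {A B C D : Cfsg.SU n K 2}
    (hh : (A : SpecialLinearGroup (Fin n) K).1 * (B : SpecialLinearGroup (Fin n) K).1 =
      (C : SpecialLinearGroup (Fin n) K).1 * (D : SpecialLinearGroup (Fin n) K).1) : A * B = C * D :=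
  Subtype.ext (Subtype.ext hh)

end

/-! ### the configuration -/

section

variable {K : Type u} [Field K] {n : ℕ} {σ : K →+* K}

theorem h_single_left (i : Fin n) (a : K) (y : Fin n → K) : h σ (Pi.single i a) y = σ a * y i := by
  rw [h, Finset.sum_eq_single i]
  · rw [Pi.single_eq_same]
  · intro j _ hj
    rw [Pi.single_eq_of_ne hj, map_zero, zero_mul]
  · intro hi; exact absurd (Finset.mem_univ i) hi

theorem h_single_right (j : Fin n) (b : K) (x : Fin n → K) : h σ x (Pi.single j b) = σ (x j) * b := by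
  rw [h, Finset.sum_eq_single j]
  · rw [Pi.single_eq_same]
  · intro i _ hi
    rw [Pi.single_eq_of_ne hi, mul_zero]
  · intro hi; exact absurd (Finset.mem_univ j) hi

end

section

variable {K : Type u} [Field K] {m : ℕ} {σ : K →+* K}

/-- the isotropic vector -/
def vv (m : ℕ) (K : Type u) [Field K] : Fin (m + 2) → K := Pi.single 0 1 + Pi.single 1 1

/-- the basis vectors orthogonal to `vv` -/
def ee (a : Fin m) (c : K) : Fin (m + 2) → K := Pi.single a.succ.succ c

theorem ss_ne_zero (a : Fin m) : a.succ.succ ≠ (0 : Fin (m + 2)) := Fin.succ_ne_zero _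
theorem ss_ne_one (a : Fin m) : a.succ.succ ≠ (1 : Fin (m + 2)) := by
  intro h
  have h1 : a.succ.succ = (0 : Fin (m + 1)).succ := h
  exact Fin.succ_ne_zero _ (Fin.succ_injective _ h1)
theorem ss_ne {a b : Fin m} (h : a ≠ b) : a.succ.succ ≠ b.succ.succ := fun h1 =>
  h (Fin.succ_injective _ (Fin.succ_injective _ h1))

theorem h_vv (h2 : (2 : K) = 0) : h σ (vv m K) (vv m K) = 0 := by
  rw [vv, h_add', h_single_left, h_single_left]
  simp
  linear_combination h2

theorem h_v_ee (a : Fin m) (c : K) : h σ (vv m K) (ee a c) = 0 := by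
  rw [vv, h_add', h_single_left, h_single_left, ee, Pi.single_eq_of_ne (ss_ne_zero a).symm,
    Pi.single_eq_of_ne (ss_ne_one a).symm, mul_zero, add_zero]

theorem h_ee_v (a : Fin m) (c : K) : h σ (ee a c) (vv m K) = 0 := by
  rw [ee, h_single_left, vv, Pi.add_apply, Pi.single_eq_of_ne (ss_ne_zero a), Pi.single_eq_of_ne (ss_ne_one a),
    add_zero, mul_zero]

theorem h_ee (a : Fin m) (c d : K) : h σ (ee a c) (ee a d) = σ c * d := by
  rw [ee, ee, h_single_left, Pi.single_eq_same]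

theorem h_ee_ne {a b : Fin m} (hab : a ≠ b) (c d : K) : h σ (ee a c) (ee b d) = 0 := by
  rw [ee, ee, h_single_left, Pi.single_eq_of_ne (ss_ne hab), mul_zero]

theorem ee_add (a : Fin m) (c d : K) : ee a c + ee a d = ee a (c + d) := (Pi.single_add _ _ _).symm

variable (σ) in
/-- the quaternion elements -/
noncomputable def xm (ω : K) (a : Fin m) : Matrix (Fin (m + 2)) (Fin (m + 2)) K := E σ (vv m K) (ee a 1) ω
variable (σ) in
/-- the quaternion elements -/
noncomputable def sm (ω : K) (a : Fin m) : Matrix (Fin (m + 2)) (Fin (m + 2)) K := E σ (vv m K) (ee a ω) ω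
variable (σ) in
/-- the centre -/
noncomputable def zm (m : ℕ) (K : Type u) [Field K] (σ : K →+* K) : Matrix (Fin (m + 2)) (Fin (m + 2)) K :=
  E σ (vv m K) 0 1
/-- the torus -/
def dm (ω : K) (a d : Fin m) : Matrix (Fin (m + 2)) (Fin (m + 2)) K :=
  Matrix.diagonal (fun i => if i = a.succ.succ then ω else if i = d.succ.succ then ω ^ 2 else 1)
variable (σ) in
/-- the transpositions -/
noncomputable def gm (a b : Fin m) : Matrix (Fin (m + 2)) (Fin (m + 2)) K := E σ (ee a 1 + ee b 1) 0 1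

variable {ω : K} (hω : ω ^ 2 + ω + 1 = 0) (hs : ∀ x, σ x = x ^ 2) (h2 : (2 : K) = 0)

theorem h_zero (x : Fin (m + 2) → K) : h σ (0 : Fin (m + 2) → K) x = 0 := by simp [h]
theorem h_zero' (x : Fin (m + 2) → K) : h σ x (0 : Fin (m + 2) → K) = 0 := by simp [h]

include hω hs h2 in
theorem m1 (a : Fin m) : xm σ ω a * sm σ ω a = zm m K σ * sm σ ω a * xm σ ω a := by
  rw [xm, sm, zm, E_mul (h_vv h2) (h_v_ee a _) (h_ee_v a _), E_mul (h_vv h2) (h_v_ee a _) (h_zero _),
    E_mul (h_vv h2) (h_v_ee a _) (by rw [zero_add]; exact h_ee_v a _), zero_add, h_zero, h_ee, h_ee, ee_add, ee_add,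
    hs, hs, add_comm ω 1]
  congr 1
  linear_combination ω * h2 - hω

theorem dm_mulVec (ω : K) (a d : Fin m) (x : Fin (m + 2) → K) (i : Fin (m + 2)) : (dm ω a d *ᵥ x) i =
    (if i = a.succ.succ then ω else if i = d.succ.succ then ω ^ 2 else 1) * x i := by
  rw [dm, mulVec_diagonal]

theorem dm_vv (ω : K) (a d : Fin m) : dm ω a d *ᵥ vv m K = vv m K := by
  funext i
  rw [dm_mulVec]
  by_cases h1 : i = a.succ.succ
  · rw [if_pos h1, h1, vv, Pi.add_apply, Pi.single_eq_of_ne (ss_ne_zero a), Pi.single_eq_of_ne (ss_ne_one a),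
      add_zero, mul_zero]
  by_cases h2 : i = d.succ.succ
  · rw [if_neg h1, if_pos h2, h2, vv, Pi.add_apply, Pi.single_eq_of_ne (ss_ne_zero d), Pi.single_eq_of_ne (ss_ne_one d),
      add_zero, mul_zero]
  rw [if_neg h1, if_neg h2, one_mul]

theorem dm_ee (ω : K) (a d b : Fin m) (c : K) : dm ω a d *ᵥ ee b c =
    ee b ((if b = a then ω else if b = d then ω ^ 2 else 1) * c) := by
  funext i
  rw [dm_mulVec, ee, ee]
  by_cases hi : i = b.succ.succ
  · rw [hi, Pi.single_eq_same, Pi.single_eq_same]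
    congr 1
    have e1 : ∀ a b : Fin m, a.succ.succ = b.succ.succ ↔ a = b := fun a b =>
      ⟨fun h => Fin.succ_injective _ (Fin.succ_injective _ h), fun h => by rw [h]⟩
    simp only [e1]
  · rw [Pi.single_eq_of_ne hi, Pi.single_eq_of_ne hi, mul_zero]

include hω in
theorem ω3 : ω ^ 3 = 1 := by linear_combination (ω - 1) * hω

include hω hs in
theorem dm_unitary (a d : Fin m) (x y : Fin (m + 2) → K) : h σ (dm ω a d *ᵥ x) (dm ω a d *ᵥ y) = h σ x y := by
  have h3 := ω3 hω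
  unfold h
  refine Finset.sum_congr rfl fun i _ => ?_
  rw [dm_mulVec, dm_mulVec, map_mul]
  split_ifs
  · rw [hs ω]
    linear_combination σ (x i) * y i * h3
  · rw [hs (ω ^ 2)]
    linear_combination σ (x i) * y i * (ω ^ 3 + 1) * h3
  · rw [map_one, one_mul, one_mul]

theorem dm_det (hω : ω ^ 2 + ω + 1 = 0) {a d : Fin m} (had : a ≠ d) : (dm ω a d).det = 1 := by
  rw [dm, det_diagonal]
  rw [← Finset.mul_prod_erase Finset.univ _ (Finset.mem_univ a.succ.succ), if_pos rfl,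
    ← Finset.mul_prod_erase _ _ (Finset.mem_erase.2 ⟨(ss_ne had).symm, Finset.mem_univ d.succ.succ⟩),
    if_neg (ss_ne had).symm, if_pos rfl, Finset.prod_eq_one, mul_one, ← pow_succ', ω3 hω]
  intro i hi
  rw [Finset.mem_erase, Finset.mem_erase] at hi
  rw [if_neg hi.2.1, if_neg hi.1]

include hω hs in
theorem dm_E (a d : Fin m) (w : Fin (m + 2) → K) (c : K) :
    dm ω a d * E σ (vv m K) w c = E σ (vv m K) (dm ω a d *ᵥ w) c * dm ω a d := by
  rw [conj_E (dm_unitary hω hs a d), dm_vv]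

include hω hs h2 in
theorem m2 (a d : Fin m) : dm ω a d * sm σ ω a = xm σ ω a * sm σ ω a * dm ω a d := by
  rw [xm, sm, dm_E hω hs, dm_ee, if_pos rfl, E_mul (h_vv h2) (h_v_ee a _) (h_ee_v a _), h_ee, ee_add, hs]
  congr 2
  · congr 1
    linear_combination hω - (ω + 1) * h2
  · linear_combination (-ω) * h2

include hω hs in
theorem m3 {a d b : Fin m} (hba : b ≠ a) (hbd : b ≠ d) : dm ω a d * xm σ ω b = xm σ ω b * dm ω a d ∧
    dm ω a d * sm σ ω b = sm σ ω b * dm ω a d := by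
  rw [xm, sm, dm_E hω hs, dm_E hω hs, dm_ee, dm_ee, if_neg hba, if_neg hbd, one_mul, one_mul]
  exact ⟨rfl, rfl⟩

include h2 in
theorem m4 {a b : Fin m} (hab : a ≠ b) : xm σ ω a * xm σ ω b = xm σ ω b * xm σ ω a ∧
    xm σ ω a * sm σ ω b = sm σ ω b * xm σ ω a ∧ sm σ ω a * sm σ ω b = sm σ ω b * sm σ ω a := by
  have key : ∀ c d : K, E σ (vv m K) (ee a c) ω * E σ (vv m K) (ee b d) ω =
      E σ (vv m K) (ee b d) ω * E σ (vv m K) (ee a c) ω := by
    intro c d
    rw [E_mul (h_vv h2) (h_v_ee b _) (h_ee_v a _), E_mul (h_vv h2) (h_v_ee a _) (h_ee_v b _), h_ee_ne hab,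
      h_ee_ne hab.symm, add_comm (ee a c)]
  exact ⟨key _ _, key _ _, key _ _⟩

include hs h2 in
theorem m5 (a : Fin m) : xm σ ω a * xm σ ω a = zm m K σ := by
  rw [xm, zm, E_mul (h_vv h2) (h_v_ee a _) (h_ee_v a _), h_ee, ee_add, hs]
  congr 1
  · rw [one_add_one_eq_two, h2]
    exact Pi.single_zero _
  · linear_combination ω * h2

theorem gm_mulVec (a b : Fin m) (x : Fin (m + 2) → K) : gm σ a b *ᵥ x =
    x - h σ (ee a 1 + ee b 1) x • (ee a 1 + ee b 1) := by
  rw [gm, E_mulVec, smul_zero, add_zero, h_zero, zero_smul, sub_zero, one_mul]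

theorem gm_vv (a b : Fin m) : gm σ a b *ᵥ vv m K = vv m K := by
  rw [gm_mulVec, h_add', h_ee_v, h_ee_v, add_zero, zero_smul, sub_zero]

theorem gm_ee {a b d : Fin m} (h1 : d ≠ a) (h2 : d ≠ b) (c : K) : gm σ a b *ᵥ ee d c = ee d c := by
  rw [gm_mulVec, h_add', h_ee_ne h1.symm, h_ee_ne h2.symm, add_zero, zero_smul, sub_zero]

theorem gm_ee_a {a b : Fin m} (hab : a ≠ b) (h2 : (2 : K) = 0) (c : K) : gm σ a b *ᵥ ee a c = ee b c := by
  rw [gm_mulVec, h_add', h_ee, h_ee_ne hab.symm, map_one, one_mul, add_zero]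
  have h3 : ∀ i : Fin m, c • ee i (1 : K) = ee i c := by
    intro i
    rw [ee, ee, ← Pi.single_smul, smul_eq_mul, mul_one]
  rw [smul_add, h3, h3]
  funext i
  rw [Pi.sub_apply, Pi.add_apply]
  linear_combination (-ee b c i) * h2

theorem gm_self {a b : Fin m} (hab : a ≠ b) (h2 : (2 : K) = 0) :
    h σ (ee a (1 : K) + ee b 1) (ee a 1 + ee b 1) = 0 := by
  rw [h_add, h_add', h_add', h_ee, h_ee, h_ee_ne hab, h_ee_ne hab.symm, map_one]
  linear_combination h2

theorem gm_unitary (hσ : ∀ x, σ (σ x) = x) {a b : Fin m} (hab : a ≠ b) (h2 : (2 : K) = 0) (x y : Fin (m + 2) → K) :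
    h σ (gm σ a b *ᵥ x) (gm σ a b *ᵥ y) = h σ x y :=
  E_unitary hσ (gm_self hab h2) (h_zero' _) (by rw [map_one, h_zero]; linear_combination h2) x y

theorem gm_E (hσ : ∀ x, σ (σ x) = x) {a b : Fin m} (hab : a ≠ b) (h2 : (2 : K) = 0) (w : Fin (m + 2) → K) (c : K) :
    gm σ a b * E σ (vv m K) w c = E σ (vv m K) (gm σ a b *ᵥ w) c * gm σ a b := by
  rw [conj_E (gm_unitary hσ hab h2), gm_vv]

theorem m6 (hσ : ∀ x, σ (σ x) = x) (h2 : (2 : K) = 0) {a b : Fin m} (hab : a ≠ b) :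
    gm σ a b * xm σ ω a = xm σ ω b * gm σ a b ∧ gm σ a b * sm σ ω a = sm σ ω b * gm σ a b := by
  rw [xm, sm, gm_E hσ hab h2, gm_E hσ hab h2, gm_ee_a hab h2, gm_ee_a hab h2]
  exact ⟨rfl, rfl⟩

theorem m7 (hσ : ∀ x, σ (σ x) = x) (h2 : (2 : K) = 0) {a b d : Fin m} (hab : a ≠ b) (hda : d ≠ a) (hdb : d ≠ b) :
    gm σ a b * xm σ ω d = xm σ ω d * gm σ a b ∧ gm σ a b * sm σ ω d = sm σ ω d * gm σ a b := by
  rw [xm, sm, gm_E hσ hab h2, gm_E hσ hab h2, gm_ee hda hdb, gm_ee hda hdb]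
  exact ⟨rfl, rfl⟩

theorem zm_ne (_h2 : (2 : K) = 0) (a : Fin m) :
    zm m K σ * E σ (Pi.single 1 1 + ee a 1) 0 1 ≠ E σ (Pi.single 1 1 + ee a 1) 0 1 * zm m K σ := by
  intro hcon
  have h01 : (0 : Fin (m + 2)) ≠ 1 := by
    intro h
    exact absurd (congrArg Fin.val h) (by simp)
  have e1 : E σ (Pi.single 1 1 + ee a 1) 0 1 *ᵥ (Pi.single 0 1 : Fin (m + 2) → K) = Pi.single 0 1 := by
    rw [E_mulVec, h_zero, h_add', h_single_left, ee, h_single_left, Pi.single_eq_of_ne h01.symm,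
      Pi.single_eq_of_ne (ss_ne_zero a), mul_zero]
    simp
  have e2 : zm m K σ *ᵥ (Pi.single 0 1 : Fin (m + 2) → K) = - Pi.single 1 1 := by
    rw [zm, E_mulVec, h_zero, vv, h_add', h_single_left, h_single_left, Pi.single_eq_of_ne h01.symm,
      Pi.single_eq_same, mul_zero, map_one, mul_one, add_zero]
    simp
  have e3 : E σ (Pi.single 1 1 + ee a 1) 0 1 *ᵥ (- Pi.single 1 1 : Fin (m + 2) → K) = ee a 1 := by
    rw [mulVec_neg, E_mulVec, h_zero, h_add', h_single_left, ee, h_single_left, Pi.single_eq_same,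
      Pi.single_eq_of_ne (ss_ne_one a), mul_zero, map_one, mul_one, add_zero]
    simp
  have e4 := congrArg (fun M => M *ᵥ (Pi.single 0 1 : Fin (m + 2) → K)) hcon
  beta_reduce at e4
  rw [← mulVec_mulVec, ← mulVec_mulVec, e1, e2, e3] at e4
  have e5 := congrFun e4 1
  rw [ee, Pi.single_eq_of_ne (ss_ne_one a).symm, Pi.neg_apply, Pi.single_eq_same] at e5
  exact one_ne_zero (neg_eq_zero.1 e5)

end

/-- **`LS` for `PSU_n(2)`, `n ≥ 5`: `2 ^ (n - 2)`, arbitrary kernels.** -/
theorem ls_psu_two {K : Type u} [Field K] [Fintype K] (hK : Fintype.card K = 4) {m : ℕ} (hm : 3 ≤ m) :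
    LS.{u, v, w} 2 (2 ^ m) (Cfsg.PSU (m + 2) K 2) := by
  classical
  have : Fact (Nat.Prime 2) := ⟨Nat.prime_two⟩
  have hchar : CharP K 2 := charP_of_card_eq_prime_pow (R := K) (p := 2) (f := 2) hK
  have h2 : (2 : K) = 0 := by exact_mod_cast CharP.cast_eq_zero K 2
  let σ : K →+* K := frobenius K 2
  have hs : ∀ x, σ x = x ^ 2 := fun x => rfl
  have h4' : ∀ x : K, x ^ 4 = x := fun x => by rw [← hK]; exact FiniteField.pow_card x
  have hσ : ∀ x, σ (σ x) = x := fun x => by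
    rw [hs, hs, ← pow_mul]; exact h4' x
  have h4 : ∀ x : K, x ≠ 0 → x ^ 3 = 1 := fun x hx => by
    apply mul_right_cancel₀ hx
    rw [← pow_succ, h4', one_mul]
  obtain ⟨ω, hω⟩ : ∃ ω : K, ω ^ 2 + ω + 1 = 0 := by
    obtain ⟨ω, hω0⟩ : ∃ ω : K, ω ∉ ({0, 1} : Finset K) := by
      by_contra hcon
      push Not at hcon
      have h5 : (Finset.univ : Finset K) ⊆ {0, 1} := fun x _ => hcon x
      have h6 := Finset.card_le_card h5
      rw [Finset.card_univ, hK] at h6
      have h7 := Finset.card_le_two (a := (0 : K)) (b := 1)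
      omega
    rw [Finset.mem_insert, Finset.mem_singleton, not_or] at hω0
    refine ⟨ω, ?_⟩
    have h5 : (ω - 1) * (ω ^ 2 + ω + 1) = 0 := by
      have := h4 ω hω0.1
      linear_combination this
    exact (mul_eq_zero.1 h5).resolve_left (sub_ne_zero.2 hω0.2)
  have hωσ : ω + σ ω = 1 := by rw [hs]; linear_combination hω - h2
  have := Cfsg.Agent.S0283.result (F := K) (q := 2) (by rw [hK]; rfl) (m + 2) (by omega) (by omega)
  -- the elements of `SU`
  have hE : ∀ (a : Fin m) (c : K), c * σ c = 1 → (E σ (vv m K) (ee a c) ω).det = 1 ∧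
      ∀ x y, h σ (E σ (vv m K) (ee a c) ω *ᵥ x) (E σ (vv m K) (ee a c) ω *ᵥ y) = h σ x y := by
    intro a c hc
    exact ⟨det_E h4 h2 (h_vv h2) (h_v_ee a c) (h_ee_v a c), E_unitary hσ (h_vv h2) (h_v_ee a c)
      (by rw [h_ee, hωσ, mul_comm, hc])⟩
  have ht : ∀ u : Fin (m + 2) → K, h σ u u = 0 → (E σ u 0 1).det = 1 ∧
      ∀ x y, h σ (E σ u 0 1 *ᵥ x) (E σ u 0 1 *ᵥ y) = h σ x y := by
    intro u hu
    exact ⟨det_E h4 h2 hu (h_zero' _) (h_zero _), E_unitary hσ hu (h_zero' _)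
      (by rw [map_one, h_zero]; linear_combination h2)⟩
  have h11 : (1 : K) * σ 1 = 1 := by rw [map_one, mul_one]
  have hωω : ω * σ ω = 1 := by rw [hs]; linear_combination ω3 hω
  let X : Fin m → Cfsg.SU (m + 2) K 2 := fun a => mkSU hs (xm σ ω a) (hE a 1 h11).1 (hE a 1 h11).2
  let S : Fin m → Cfsg.SU (m + 2) K 2 := fun a => mkSU hs (sm σ ω a) (hE a ω hωω).1 (hE a ω hωω).2
  let Z : Cfsg.SU (m + 2) K 2 := mkSU hs (zm m K σ) (ht _ (h_vv h2)).1 (ht _ (h_vv h2)).2
  let D : Fin m → Fin m → Cfsg.SU (m + 2) K 2 := fun a d =>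
    if had : a = d then 1 else mkSU hs (dm ω a d) (dm_det hω had) (dm_unitary hω hs a d)
  let G : Fin m → Fin m → Cfsg.SU (m + 2) K 2 := fun a b =>
    if hab : a = b then 1 else mkSU hs (gm σ a b) (ht _ (gm_self hab h2)).1 (ht _ (gm_self hab h2)).2
  have hD : ∀ {a d : Fin m} (had : a ≠ d), D a d = mkSU hs (dm ω a d) (dm_det hω had) (dm_unitary hω hs a d) :=
    fun had => dif_neg had
  have hG : ∀ {a b : Fin m} (hab : a ≠ b), G a b = mkSU hs (gm σ a b) (ht _ (gm_self hab h2)).1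
    (ht _ (gm_self hab h2)).2 := fun hab => dif_neg hab
  let q := QuotientGroup.mk' (Subgroup.center (Cfsg.SU (m + 2) K 2))
  have hq : ∀ {A B C D : Cfsg.SU (m + 2) K 2}, A * B = C * D → q A * q B = q C * q D := by
    intro A B C D hh
    rw [← map_mul, hh, map_mul]
  have : Nonempty (Fin m) := ⟨⟨0, by omega⟩⟩
  have a0 : Fin m := ⟨0, by omega⟩
  have key := ls_quat.{u, v, w} (T := Cfsg.PSU (m + 2) K 2) (ι := Fin m) (z := q Z) (x := fun a => q (X a))
    (s := fun a => q (S a)) (D := fun a b => q (D a b)) (g := fun a b => q (G a b)) ?_ ?_ ?_ ?_ ?_ ?_ ?_ ?_ ?_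
  · rwa [Fintype.card_fin] at key
  · intro a b
    by_contra hcon
    push Not at hcon
    have h5 : (Finset.univ : Finset (Fin m)) ⊆ {a, b} := by
      intro d _
      rw [Finset.mem_insert, Finset.mem_singleton]
      by_cases hd : d = a
      · exact Or.inl hd
      · exact Or.inr (hcon d hd)
    have h6 := Finset.card_le_card h5
    rw [Finset.card_univ, Fintype.card_fin] at h6
    have h7 := Finset.card_le_two (a := a) (b := b)
    omega
  · intro hcon
    have h5 : Z ∈ Subgroup.center (Cfsg.SU (m + 2) K 2) := (QuotientGroup.eq_one_iff Z).1 hcon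
    rw [Subgroup.mem_center_iff] at h5
    have hu : h σ (Pi.single 1 1 + ee a0 1 : Fin (m + 2) → K) (Pi.single 1 1 + ee a0 1) = 0 := by
      rw [h_add', h_single_left, ee, h_single_left, Pi.add_apply, Pi.add_apply, Pi.single_eq_same, Pi.single_eq_same,
        Pi.single_eq_of_ne (ss_ne_one a0), Pi.single_eq_of_ne (ss_ne_one a0).symm, map_one]
      linear_combination h2
    have h6 := h5 (mkSU hs _ (ht _ hu).1 (ht _ hu).2)
    exact zm_ne h2 a0 (congrArg (fun A : Cfsg.SU (m + 2) K 2 => (A : SpecialLinearGroup (Fin (m + 2)) K).1) h6).symm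
  · intro a
    have h5 : X a * S a = Z * S a * X a := mkSU_ext (m1 hω hs h2 a)
    have h6 := congrArg q h5
    rwa [map_mul, map_mul, map_mul] at h6
  · intro a d had
    have h5 : D a d * S a = X a * S a * D a d := by
      rw [hD had]
      exact mkSU_ext (m2 hω hs h2 a d)
    have h6 := congrArg q h5
    rwa [map_mul, map_mul, map_mul] at h6
  · intro a d b had hba hbd
    rw [hD had]
    exact ⟨hq (mkSU_ext (m3 hω hs hba hbd).1), hq (mkSU_ext (m3 hω hs hba hbd).2)⟩
  · intro a b hab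
    obtain ⟨h5, h6, h7⟩ := m4 (ω := ω) h2 hab
    exact ⟨hq (mkSU_ext h5), hq (mkSU_ext h6), hq (mkSU_ext h7)⟩
  · intro a
    have h5 : X a * X a = Z := Subtype.ext (Subtype.ext (m5 hs h2 a))
    show q (X a) * q (X a) = q Z
    rw [← map_mul, h5]
  · intro a b hab
    rw [hG hab]
    exact ⟨hq (mkSU_ext (m6 hσ h2 hab).1), hq (mkSU_ext (m6 hσ h2 hab).2)⟩
  · intro a b d hab hda hdb
    rw [hG hab]
    exact ⟨hq (mkSU_ext (m7 hσ h2 hab hda hdb).1), hq (mkSU_ext (m7 hσ h2 hab hda hdb).2)⟩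

/-- **`LS` for `PSU₆(2)`: `16`.** -/
theorem ls_u62 {K : Type u} [Field K] [Fintype K] (hK : Fintype.card K = 4) :
    LS.{u, v, w} 2 16 (Cfsg.PSU 6 K 2) := ls_psu_two hK (m := 4) (by norm_num)

end Cfsg.Agent.H95.LSx.Uni
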